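import Groth.Agent.Sga4h.LocCohLES
import Groth.Agent.Sga4B.LocCohTriv
import Groth.Agent.Etrest.RDer1
import Groth.Prelude.Def_EtDepth

/-!
# Étale depth in short exact sequences, and in terms of higher direct images
-/

set_option autoImplicit false
universe u
open CategoryTheory CategoryTheory.Limits AlgebraicGeometry Opposite

namespace Groth.Agent.Sga2lef.H107.DepthSES

open Groth.Agent.Sga4h.LocCohLES Groth.Agent.Etrest

variable {X U : Scheme.{u}} (j : U ⟶ X) [EtCoh.BCCont j]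

theorem DepthGE.mono {j : U ⟶ X} [EtCoh.BCCont j] {F : EtCoh.Ab X} {m n : ℕ} (h : EtDepth.DepthGE j F n)
    (hmn : m ≤ n) : EtDepth.DepthGE j F m := fun p hp => h p (lt_of_lt_of_le hp hmn)

theorem DepthGE.of_iso {j : U ⟶ X} [EtCoh.BCCont j] {F G : EtCoh.Ab X} (e : F ≅ G) {n : ℕ}
    (h : EtDepth.DepthGE j F n) : EtDepth.DepthGE j G n :=
  fun p hp => (h p hp).of_iso ((EtDual.locCoh j p).mapIso e.symm)

theorem depthGE_congr {j : U ⟶ X} [EtCoh.BCCont j] {F G : EtCoh.Ab X} (e : F ≅ G) (n : ℕ) :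
    EtDepth.DepthGE j F n ↔ EtDepth.DepthGE j G n :=
  ⟨DepthGE.of_iso e, DepthGE.of_iso e.symm⟩

theorem depthGE_zero (F : EtCoh.Ab X) : EtDepth.DepthGE j F 0 := fun p hp => absurd hp (Nat.not_lt_zero p)

variable {S : ShortComplex (EtCoh.Ab X)} (hS : S.ShortExact)

include hS

/-- `0 ⟶ S.X₁ ⟶ S.X₂ ⟶ S.X₃ ⟶ 0`: depth of the kernel. -/
theorem depthGE_X₁ [Etale j] {n : ℕ} (h2 : EtDepth.DepthGE j S.X₂ n) (h3 : EtDepth.DepthGE j S.X₃ (n - 1)) :
    EtDepth.DepthGE j S.X₁ n := by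
  intro p hp
  rcases p with _ | p
  · have h := h2 0 hp
    have : Mono ((EtDual.locCoh j 0).map S.f) := by
      have := hS.mono_f
      have h0 : Mono ((EtDual.secSupp j).map S.f) := inferInstance
      have h1 := NatIso.naturality_2 (locCohZeroIso j) S.f
      rw [← h1]
      infer_instance
    exact IsZero.of_mono ((EtDual.locCoh j 0).map S.f) h
  · exact RDer1.isZero_X₁ (EtDual.secSupp j) hS p (h3 p (by omega)) (h2 (p + 1) hp)

/-- depth of the cokernel. -/
theorem depthGE_X₃ {n : ℕ} (h2 : EtDepth.DepthGE j S.X₂ n) (h1 : EtDepth.DepthGE j S.X₁ (n + 1)) :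
    EtDepth.DepthGE j S.X₃ n := fun p hp =>
  RDer1.isZero_X₃ (EtDual.secSupp j) hS p (h2 p hp) (h1 (p + 1) (by omega))

/-- depth of an extension. -/
theorem depthGE_X₂ {n : ℕ} (h1 : EtDepth.DepthGE j S.X₁ n) (h3 : EtDepth.DepthGE j S.X₃ n) :
    EtDepth.DepthGE j S.X₂ n := fun p hp =>
  RDer1.isZero_X₂ (EtDual.secSupp j) hS p (h1 p hp) (h3 p hp)

omit hS

/-- Depth in terms of the unit and the higher direct images. -/
theorem depthGE_of_unit [IsOpenImmersion j] (F : EtCoh.Ab X) (n : ℕ)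
    (hu : IsIso ((EtCoh.pullPushAdj j).unit.app F))
    (hv : ∀ q : ℕ, 1 ≤ q → q ≤ n → IsZero ((EtCoh.Rpush j q).obj ((EtCoh.pull j).obj F))) :
    EtDepth.DepthGE j F (n + 2) := by
  intro p hp
  have hm : Mono (EtDual.unitApp j F) := inferInstanceAs (Mono ((EtCoh.pullPushAdj j).unit.app F))
  have he : Epi (EtDual.unitApp j F) := inferInstanceAs (Epi ((EtCoh.pullPushAdj j).unit.app F))
  match p, hp with
  | 0, _ => exact (isZero_locCoh_zero_iff j F).2 hm
  | 1, _ => exact (isZero_locCoh_one_iff j F).2 he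
  | p + 2, hp => exact (hv (p + 1) (by omega) (by omega)).of_iso (locCohSuccIso j F p).symm

/-- Depth `≥ 1` means that the unit is a monomorphism. -/
theorem mono_unit_of_depthGE [Etale j] {F : EtCoh.Ab X} {n : ℕ} (h : EtDepth.DepthGE j F (n + 1)) :
    Mono ((EtCoh.pullPushAdj j).unit.app F) :=
  (isZero_locCoh_zero_iff j F).1 (h 0 (Nat.succ_pos n))

end Groth.Agent.Sga2lef.H107.DepthSES
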