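import Groth.Agent.Etrest.StrictLocBC
import Groth.Agent.Etrest.VCBaseChange
import Groth.Agent.Sga1.UlaSL
import Groth.Agent.Hensel.Exist
import Mathlib.AlgebraicGeometry.Fiber

/-!
# Strict localizations of fibres

`f : X ⟶ S`, `τ : Spec B ⟶ X` a strict localization with `τ (closedPoint B) = y`, `σ : Spec A ⟶ S` one at
`f y`, `β : A →+* B` local with `spm β ≫ σ = τ ≫ f`.  Then `Spec (B ⧸ m_A B)` is a strict localization of the
fibre `f.fiber (f y)`.
-/

set_option autoImplicit false
universe u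
open CategoryTheory CategoryTheory.Limits AlgebraicGeometry Opposite IsLocalRing

namespace Groth.Agent.Sga2lef.H107.FibreLoc

open Groth.Agent.Etrest.StrictLoc Groth.Agent.Etrest.StrictLocBC Groth.Agent.Sga1.UlaSL

/-- Quotients by an ideal and by its extension form a cartesian square of spectra. -/
theorem isPullback_quot {R B K : Type u} [CommRing R] [CommRing B] [CommRing K] (φ : R →+* B)
    (π : R →+* K) (hπ : Function.Surjective π) (J : Ideal B) (hJ : J = (RingHom.ker π).map φ)
    (ψ : K →+* B ⧸ J) (hψ : ψ.comp π = (Ideal.Quotient.mk J).comp φ) :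
    IsPullback (spm (Ideal.Quotient.mk J)) (spm ψ) (spm φ) (spm π) := by
  refine isPullback_SpecMap_of_isPushout _ _ _ _ ?_
  have key : ∀ s : PushoutCocone (CommRingCat.ofHom φ) (CommRingCat.ofHom π),
      ∀ a ∈ J, s.inl.hom a = 0 := by
    intro s a ha
    have h1 : J ≤ RingHom.ker s.inl.hom := by
      rw [hJ, Ideal.map_le_iff_le_comap]
      intro r hr
      have h2 := congrArg (fun t => t.hom r) s.condition
      have h3 : s.inl.hom (φ r) = s.inr.hom (π r) := h2
      rw [Ideal.mem_comap, RingHom.mem_ker, h3, (RingHom.mem_ker).1 hr, map_zero]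
    exact h1 ha
  refine ⟨⟨?_⟩, ⟨PushoutCocone.IsColimit.mk _ (fun s => CommRingCat.ofHom
    (Ideal.Quotient.lift J s.inl.hom (key s))) ?_ ?_ ?_⟩⟩
  · ext x
    exact (RingHom.congr_fun hψ x).symm
  · intro s
    ext x
    change Ideal.Quotient.lift J s.inl.hom (key s) (Ideal.Quotient.mk J x) = s.inl.hom x
    rw [Ideal.Quotient.lift_mk]
  · intro s
    ext x
    obtain ⟨r, rfl⟩ := hπ x
    have h2 := congrArg (fun t => t.hom r) s.condition
    have h3 : s.inl.hom (φ r) = s.inr.hom (π r) := h2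
    have h4 : ψ (π r) = Ideal.Quotient.mk J (φ r) := RingHom.congr_fun hψ r
    change Ideal.Quotient.lift J s.inl.hom (key s) (ψ (π r)) = s.inr.hom (π r)
    rw [h4, Ideal.Quotient.lift_mk, h3]
  · intro s m h1 h2
    ext x
    have h3 := congrArg (fun t => t.hom x) h1
    exact h3

/-- Composition with a monomorphism does not change the pullback. -/
theorem isPullback_comp_mono {C : Type*} [Category C] {P X Y Z W : C} {a : P ⟶ X} {b : P ⟶ Y}
    {f : X ⟶ Z} {g : Y ⟶ Z} (h : IsPullback a b f g) (m : Z ⟶ W) [Mono m] :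
    IsPullback a b (f ≫ m) (g ≫ m) := by
  refine ⟨⟨by rw [← Category.assoc, h.w, Category.assoc]⟩, ⟨PullbackCone.IsLimit.mk _
    (fun s => h.lift s.fst s.snd ?_) ?_ ?_ ?_⟩⟩
  · rw [← cancel_mono m, Category.assoc, Category.assoc]
    exact s.condition
  · intro s; exact h.lift_fst _ _ _
  · intro s; exact h.lift_snd _ _ _
  · intro s k h1 h2
    apply h.hom_ext
    · rw [h1, h.lift_fst]
    · rw [h2, h.lift_snd]

theorem isLocAt_id (T : Type u) [CommRing T] [IsLocalRing T] :
    IsLocAt (𝟙 (Spec (CommRingCat.of T))) where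
  mono := inferInstance
  exists_hom := by
    intro T₁ _ _ t ht
    obtain ⟨φ, rfl⟩ : ∃ φ : T →+* T₁, spm φ = t := ⟨(Spec.preimage t).hom, Spec.map_preimage t⟩
    refine ⟨φ, ?_, Category.comp_id _⟩
    have h1 : (PrimeSpectrum.comap φ) (closedPoint T₁) = closedPoint T := ht
    exact (IsLocalRing.isLocalHom_iff_comap_closedPoint φ).2 h1

variable {X S : Scheme.{u}} (f : X ⟶ S) {A B : Type u} [CommRing A] [IsLocalRing A] [CommRing B]
  [IsLocalRing B] {σ : Spec (CommRingCat.of A) ⟶ S} {τ : Spec (CommRingCat.of B) ⟶ X}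

/-- The spectrum of `B ⧸ m_A B` is a strict localization of the fibre. -/
theorem exists_strictLoc_fiber (hσ : IsStrictLoc σ) (hτ : IsStrictLoc τ) (β : A →+* B)
    [hβl : IsLocalHom β] (hβ : spm β ≫ σ = τ ≫ f) (s : S) (hs : σ (closedPoint A) = s) :
    ∃ (_ : IsLocalRing (B ⧸ (maximalIdeal A).map β))
      (ρ : Spec (CommRingCat.of (B ⧸ (maximalIdeal A).map β)) ⟶ f.fiber s), IsStrictLoc ρ ∧
      ρ ≫ f.fiberι s = spm (Ideal.Quotient.mk ((maximalIdeal A).map β)) ≫ τ := by
  obtain ⟨_, _, hA, hσ'⟩ := exists_specOf hσ s hs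
  let φ : S.presheaf.stalk s →+* A := algebraMap _ A
  have hm : (maximalIdeal (S.presheaf.stalk s)).map φ = maximalIdeal A :=
    Groth.Agent.Hensel.Exist.map_maximalIdeal_of_isStrictHenselization (S.presheaf.stalk s) A
  have hJ : (maximalIdeal A).map β =
      (RingHom.ker (residue (S.presheaf.stalk s))).map (β.comp φ) := by
    rw [ker_residue, ← Ideal.map_map, hm]
  have hle : (maximalIdeal A).map β ≤ maximalIdeal B := by
    rw [Ideal.map_le_iff_le_comap]
    exact ((local_hom_TFAE β).out 0 3).1 hβl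
  have hnt : Nontrivial (B ⧸ (maximalIdeal A).map β) :=
    Ideal.Quotient.nontrivial_iff.2 (fun h => (maximalIdeal.isMaximal B).ne_top (top_le_iff.1 (h ▸ hle)))
  have hloc : IsLocalRing (B ⧸ (maximalIdeal A).map β) :=
    IsLocalRing.of_surjective' (Ideal.Quotient.mk _) Ideal.Quotient.mk_surjective
  let ψ : ResidueField (S.presheaf.stalk s) →+* B ⧸ (maximalIdeal A).map β :=
    Ideal.Quotient.lift (maximalIdeal (S.presheaf.stalk s))
      ((Ideal.Quotient.mk ((maximalIdeal A).map β)).comp (β.comp φ)) (fun a ha => by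
        rw [RingHom.comp_apply, Ideal.Quotient.eq_zero_iff_mem, hJ, ker_residue]
        exact Ideal.mem_map_of_mem _ ha)
  have hψ : ψ.comp (residue (S.presheaf.stalk s)) =
      (Ideal.Quotient.mk ((maximalIdeal A).map β)).comp (β.comp φ) := by
    ext x; rfl
  have sq1 := isPullback_quot (β.comp φ) (residue (S.presheaf.stalk s)) residue_surjective
    ((maximalIdeal A).map β) hJ ψ hψ
  have sq2 := isPullback_comp_mono sq1 (S.fromSpecStalk s)
  have e1 : spm (β.comp φ) ≫ S.fromSpecStalk s = τ ≫ f := by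
    rw [spm_comp, Category.assoc, ← hβ, ← hσ']
  have sq3 : IsPullback (spm (Ideal.Quotient.mk ((maximalIdeal A).map β))) (spm ψ) (τ ≫ f)
      (S.fromSpecResidueField s) := by
    rw [e1] at sq2
    exact sq2
  have hfib : IsPullback (f.fiberι s) (f.fiberToSpecResidueField s) f (S.fromSpecResidueField s) :=
    IsPullback.of_hasPullback _ _
  let ρ : Spec (CommRingCat.of (B ⧸ (maximalIdeal A).map β)) ⟶ f.fiber s :=
    hfib.lift (spm (Ideal.Quotient.mk ((maximalIdeal A).map β)) ≫ τ) (spm ψ) (by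
      rw [Category.assoc]; exact sq3.w)
  have hρ1 : ρ ≫ f.fiberι s = spm (Ideal.Quotient.mk ((maximalIdeal A).map β)) ≫ τ :=
    hfib.lift_fst _ _ _
  have hρ2 : ρ ≫ f.fiberToSpecResidueField s = spm ψ := hfib.lift_snd _ _ _
  have sq4 : IsPullback ρ (spm (Ideal.Quotient.mk ((maximalIdeal A).map β))) (f.fiberι s) τ := by
    have := IsPullback.of_bot (h₁₁ := spm (Ideal.Quotient.mk ((maximalIdeal A).map β)))
      (v₁₁ := ρ) (v₁₂ := τ) (h₂₁ := f.fiberι s) (v₂₁ := f.fiberToSpecResidueField s)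
      (v₂₂ := f) (h₃₁ := S.fromSpecResidueField s) (by rw [hρ2]; exact sq3) hρ1.symm hfib
    exact this.flip
  refine ⟨hloc, ρ, ?_, hρ1⟩
  have : IsLocalHom (Ideal.Quotient.mk ((maximalIdeal A).map β)) :=
    IsLocalHom.of_surjective _ Ideal.Quotient.mk_surjective
  have h5 := isStrictLoc_of_isPullback hτ sq4 (isLocAt_id (B ⧸ (maximalIdeal A).map β))
    (Ideal.Quotient.mk ((maximalIdeal A).map β))
    (RingHom.isIntegral_of_surjective _ Ideal.Quotient.mk_surjective) (Category.id_comp _).symm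
  rwa [Category.id_comp] at h5

end Groth.Agent.Sga2lef.H107.FibreLoc
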