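import Groth.Agent.EtpbcB.TorsVanN
import Groth.Agent.EtpbcB.TorsEtN
import Groth.Agent.Etbc.H211.PrimTors
import Groth.Prelude.Def_EtDepth
import Groth.Prelude.Def_EtAcyc

/-!
# `ℓ`-torsion sheaves: comparison of definitions and effacement

* `isLTorsion_iff_acyc`: `EtDepth.IsLTorsion ℓ F ↔ EtAcyc.IsLTorsion {ℓ} F`;
* `exists_efface`: an `L`-torsion sheaf embeds in an `L`-torsion sheaf which is acyclic for all direct images
  along quasi-compact quasi-separated morphisms.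
-/

set_option autoImplicit false
universe u
open CategoryTheory CategoryTheory.Limits AlgebraicGeometry Opposite

namespace Groth.Agent.Sga2lef.H107.Efface

open Groth.Agent.EtpbcB.TorsEtN Groth.Agent.EtpbcB.TorsSubN Groth.Agent.EtpbcB.TorsVanN

theorem isOrd_primesIn (L : Set ℕ) : IsOrd {m | EtAcyc.PrimesIn L m} where
  one_mem := ⟨one_pos, fun _ hp h => absurd (Nat.dvd_one.1 h) hp.one_lt.ne'⟩
  mul_mem := fun hm hn => ⟨Nat.mul_pos hm.1 hn.1, fun p hp h =>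
    (hp.dvd_mul.1 h).elim (fun h => hm.2 p hp h) (fun h => hn.2 p hp h)⟩
  of_dvd := fun hmn hn => ⟨Nat.pos_of_dvd_of_pos hmn hn.1, fun p hp h =>
    hn.2 p hp (h.trans hmn)⟩
  pos := fun hn => hn.1

variable {X : Scheme.{u}}

theorem isLTorsion_iff_acyc {ℓ : ℕ} (hℓ : ℓ.Prime) (F : EtCoh.Ab X) :
    EtDepth.IsLTorsion ℓ F ↔ EtAcyc.IsLTorsion {ℓ} F := by
  constructor
  · intro h U s x
    obtain ⟨V, g, hv, k, hk⟩ := h U s x
    exact ⟨V, g, ℓ ^ k, hv, ⟨pow_pos hℓ.pos k, fun p hp hpk =>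
      (Nat.prime_dvd_prime_iff_eq hp hℓ).1 (hp.dvd_of_dvd_pow hpk)⟩, hk⟩
  · intro h U s x
    obtain ⟨V, g, m, hv, ⟨hm0, hm⟩, hs⟩ := h U s x
    refine ⟨V, g, hv, m.primeFactorsList.length, ?_⟩
    rw [← Nat.eq_prime_pow_of_unique_prime_dvd hm0.ne' (fun {d} hd hdm => hm d hd hdm)]
    exact hs

theorem isLTorsion_pull {X Y : Scheme.{u}} {ℓ : ℕ} (f : X ⟶ Y) (F : EtCoh.Ab Y)
    (hF : EtDepth.IsLTorsion ℓ F) : EtDepth.IsLTorsion ℓ ((EtCoh.pull f).obj F) :=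
  Groth.Agent.Etbc.H211.PrimTors.isPrimaryTorsion_pull ℓ f F hF

theorem isLTorsion_push {X Y : Scheme.{u}} {ℓ : ℕ} (f : X ⟶ Y) [QuasiCompact f] (F : EtCoh.Ab X)
    (hF : EtDepth.IsLTorsion ℓ F) : EtDepth.IsLTorsion ℓ ((EtCoh.push f).obj F) :=
  Groth.Agent.Etbc.H211.PrimTors.isPrimaryTorsion_push ℓ f F hF

theorem isLTorsion_of_epi {ℓ : ℕ} (hℓ : ℓ.Prime) {F G : EtCoh.Ab X} (φ : F ⟶ G) [Epi φ]
    (hF : EtDepth.IsLTorsion ℓ F) : EtDepth.IsLTorsion ℓ G :=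
  (isLTorsion_iff_acyc hℓ G).2 (torsionN_of_epi (N := {m | EtAcyc.PrimesIn {ℓ} m}) φ
    ((isLTorsion_iff_acyc hℓ F).1 hF))

/-- Effacement by `L`-torsion sheaves acyclic for direct images along qcqs morphisms. -/
theorem exists_efface (L : Set ℕ) (F : EtCoh.Ab X) (hF : EtAcyc.IsLTorsion L F) :
    ∃ (I : EtCoh.Ab X) (i : F ⟶ I), Mono i ∧ EtAcyc.IsLTorsion L I ∧
      ∀ {Y : Scheme.{u}} (k : X ⟶ Y) [QuasiCompact k] [QuasiSeparated k] (q : ℕ), 0 < q →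
        IsZero ((EtCoh.Rpush k q).obj I) := by
  obtain ⟨J, _, i, hi⟩ := exists_mono_torsN (N := {m | EtAcyc.PrimesIn L m}) F hF
  exact ⟨_, i, hi, torsionN_torsN (isOrd_primesIn L) J, fun k _ _ q hq =>
    acyclic_push_torsN (isOrd_primesIn L) k J q hq⟩

end Groth.Agent.Sga2lef.H107.Efface
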