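import Groth.Agent.Sga2lef.H107.Fibres
import Groth.Agent.Sga2lef.H107.DepthOne
import Groth.Agent.Etbc.H189.Assembly
import Groth.Agent.S0540
import Groth.Agent.Sga2lef.H107.Efface

/-!
# Étale depth of `f⁻¹ F` for locally acyclic `f` (S3383), from the core comparison theorem
-/

set_option autoImplicit false
universe u
open CategoryTheory CategoryTheory.Limits AlgebraicGeometry Opposite IsLocalRing

namespace Groth.Agent.Sga2lef.H107.Acyc

open Groth.Agent.Etrest.StrictLoc Groth.Agent.Ega2.LACRB Groth.Agent.Sga1.UlaSL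
  Groth.Agent.Sga1.UlaLoc Etcore.HpullCalc DegRB LocRQ DepthSES Groth.Agent.Etbc.H188.ZDBase Fibres

/-- The core comparison theorem, in the form used here. -/
def CoreW (L : Set ℕ) (n : ℕ) : Prop :=
  ∀ ⦃X Y : Scheme.{u}⦄ (g : X ⟶ Y) [QuasiCompact g] [QuasiSeparated g] [IsAffine Y],
    EtAcyc.GeomFibresAcyclicN L n g →
    EtAcyc.OnStrictLocalizations g (fun _ _ h => EtAcyc.GeomFibresAcyclicN L n h) →
      EtAcyc.CompN g L n

section

variable {X S : Scheme.{u}} {f : X ⟶ S} {A B : Type u} [CommRing A] [IsLocalRing A] [CommRing B]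
  [IsLocalRing B] {σ : Spec (CommRingCat.of A) ⟶ S} {τ : Spec (CommRingCat.of B) ⟶ X}
  (hσ : IsStrictLoc σ) (hτ : IsStrictLoc τ) (β : A →+* B) [IsLocalHom β]
  (hβ : spm β ≫ σ = τ ≫ f) {ℓ n : ℕ} (hℓ : ℓ.Prime)

include hσ hτ hβ hℓ

/-- The geometric fibres of the punctured spectrum over `Spec A`. -/
theorem geomFibres (hf : EtDepth.IsLocAcyclicLE f ℓ n) {C : Type u} [CommRing C]
    [HenselianLocalRing C] [IsSepClosed (ResidueField C)] (c : B →+* C) (hc : Function.Surjective c)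
    (ψ : ResidueField A →+* C) (sq : IsPullback (spm c) (spm ψ) (spm β) (resPt A))
    (hd : ∀ q : ℕ, q ≤ n → InvQ (FEt.puncturedSpec C).ι
      (EtCoh.const (Spec (CommRingCat.of C)) (ZMod ℓ)) q) :
    EtAcyc.GeomFibresAcyclicN {ℓ} n ((FEt.puncturedSpec B).ι ≫ spm β) := by
  have := hσ.sepClosed
  intro a Ω _ _ _ _
  by_cases ha : a = closedPoint A
  · subst ha
    obtain ⟨φ, hφ, he⟩ := exists_closed_pt A Ω
    have key : ∀ t, spm φ ≫ resPt A = t →
        EtAcyc.IsAcyclicSchemeN {ℓ} n (pullback ((FEt.puncturedSpec B).ι ≫ spm β) t) := by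
      rintro _ rfl
      exact closed_fibre β c hc ψ sq hℓ hd φ hφ
    exact key _ he
  · obtain ⟨e⟩ := isIso_fibre β (EtAcyc.geomPt (Spec (CommRingCat.of A)) a Ω) (fun z hz => ha (by
      rw [← hz]
      exact (Scheme.fromSpecResidueField_apply a _).symm))
    refine Etbc.H189.FibBC.isAcyclicSchemeN_of_iso e ?_
    exact BCOpen.of_onStrictLocalizations (GeomLE.onStrictLocalizations hℓ hf) hσ hτ β hβ a Ω

omit [IsLocalHom β] in
/-- The strict localizations of the punctured spectrum over `Spec A`. -/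
theorem hloc (hf : EtDepth.IsLocAcyclicLE f ℓ n) : EtAcyc.OnStrictLocalizations
    ((FEt.puncturedSpec B).ι ≫ spm β) (fun _ _ h => EtAcyc.GeomFibresAcyclicN {ℓ} n h) := by
  have := weaklyEtale_of_isStrictLoc hσ
  have := weaklyEtale_of_isStrictLoc hτ
  exact Etbc.H198.WeBC.of_weaklyEtale_sq (GeomLE.onStrictLocalizations hℓ hf)
    ((FEt.puncturedSpec B).ι ≫ spm β) ((FEt.puncturedSpec B).ι ≫ τ) σ
    (by rw [Category.assoc, Category.assoc, hβ])

end

/-- Depth at the closed point of a strict localization, `q ≥ 2`. -/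
theorem depthGE_two {X S : Scheme.{u}} {f : X ⟶ S} {A B : Type u} [CommRing A] [IsLocalRing A]
    [CommRing B] [IsLocalRing B] [IsNoetherianRing B] {σ : Spec (CommRingCat.of A) ⟶ S}
    {τ : Spec (CommRingCat.of B) ⟶ X} (hσ : IsStrictLoc σ) (hτ : IsStrictLoc τ) (β : A →+* B)
    [IsLocalHom β] (hβ : spm β ≫ σ = τ ≫ f) {ℓ n : ℕ} (hℓ : ℓ.Prime)
    (core : CoreW.{u} {ℓ} n)
    (hf : EtDepth.IsLocAcyclicLE f ℓ n) {C : Type u} [CommRing C]
    [HenselianLocalRing C] [IsSepClosed (ResidueField C)] (c : B →+* C) (hc : Function.Surjective c)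
    (ψ : ResidueField A →+* C) (sq : IsPullback (spm c) (spm ψ) (spm β) (resPt A))
    (hd : EtDepth.DepthGE (FEt.puncturedSpec C).ι
      (EtCoh.const (Spec (CommRingCat.of C)) (ZMod ℓ)) (n + 2))
    (G : EtCoh.Ab (Spec (CommRingCat.of A))) (hG : EtAcyc.IsLTorsion {ℓ} G) :
    EtDepth.DepthGE (FEt.puncturedSpec B).ι ((EtCoh.pull (spm β)).obj G) (n + 2) := by
  have := hσ.henselian
  have := hσ.sepClosed
  have := hτ.henselian
  have := hτ.sepClosed
  have hpl := Groth.Agent.S0101.result ((FEt.puncturedSpec B).ι ≫ spm β)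
  have h1 := (core ((FEt.puncturedSpec B).ι ≫ spm β)
    (geomFibres hσ hτ β hβ hℓ hf c hc ψ sq (fun q hq => Punct.invQ_of_depthGE _ hd q hq))
    (hloc hσ hτ β hβ hℓ hf) G hG).1
  refine Punct.depthGE_of_invQ _ (fun z hz => ?_) _ n fun q hq => ?_
  · rw [mem_range_punct, not_not] at hz
    exact hz
  · exact InvQ.of_comp_left (BCOpen.invQ_spm β G q) ((bijective_Hpull_iff _ _ q).1 (h1 q hq))

/-- Depth `≥ 1` of a nonzero constant sheaf at the closed point: the punctured spectrum is nonempty. -/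
theorem nonempty_punct {C : Type u} [CommRing C] [IsLocalRing C] {ℓ : ℕ} (hℓ : ℓ.Prime)
    (hd : EtDepth.DepthGE (FEt.puncturedSpec C).ι
      (EtCoh.const (Spec (CommRingCat.of C)) (ZMod ℓ)) 1) : Nonempty (FEt.puncturedSpec C).toScheme := by
  by_contra hne
  rw [not_nonempty_iff] at hne
  have h0 : IsZero ((EtCoh.pull (FEt.puncturedSpec C).ι).obj
      (EtCoh.const (Spec (CommRingCat.of C)) (ZMod ℓ))) :=
    Etcore.Stalks.isZero_of_stalks _ fun x => (hne.false x).elim
  have h1 := (EtCoh.push (FEt.puncturedSpec C).ι).map_isZero h0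
  have h2 := mono_unit_of_depthGE (FEt.puncturedSpec C).ι hd
  have h3 : IsZero (EtCoh.const (Spec (CommRingCat.of C)) (ZMod ℓ)) :=
    IsZero.of_mono ((EtCoh.pullPushAdj (FEt.puncturedSpec C).ι).unit.app
      (EtCoh.const (Spec (CommRingCat.of C)) (ZMod ℓ))) h1
  have hconn := GeomLE.connectedSpace_spec C
  obtain ⟨e₀⟩ := Etrest.SHPoint.nonempty_H0_const (Spec (CommRingCat.of C)) (ZMod ℓ)
  have h4 : Subsingleton (EtCoh.H (Spec (CommRingCat.of C))
      (EtCoh.const (Spec (CommRingCat.of C)) (ZMod ℓ)) 0) :=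
    AddCommGrpCat.subsingleton_of_isZero ((EtCoh.HF _ 0).map_isZero h3)
  have h5 := e₀.toEquiv.subsingleton_congr.1 h4
  have : Fact (1 < ℓ) := ⟨hℓ.one_lt⟩
  exact not_subsingleton (ZMod ℓ) h5

/-- Depth at the closed point of a strict localization, `q = 1`. -/
theorem depthGE_one {A B : Type u} [CommRing A] [HenselianLocalRing A] [IsSepClosed (ResidueField A)]
    [CommRing B] [HenselianLocalRing B] [IsSepClosed (ResidueField B)] (β : A →+* B) [IsLocalHom β]
    {ℓ : ℕ} (hℓ : ℓ.Prime) {C : Type u} [CommRing C] [IsLocalRing C]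
    (c : B →+* C) (hc : Function.Surjective c)
    (ψ : ResidueField A →+* C) (hw : spm c ≫ spm β = spm ψ ≫ resPt A)
    (hd : EtDepth.DepthGE (FEt.puncturedSpec C).ι
      (EtCoh.const (Spec (CommRingCat.of C)) (ZMod ℓ)) 1)
    (G : EtCoh.Ab (Spec (CommRingCat.of A))) :
    EtDepth.DepthGE (FEt.puncturedSpec B).ι ((EtCoh.pull (spm β)).obj G) 1 := by
  have hcl : IsLocalHom c := IsLocalHom.of_surjective c hc
  obtain ⟨v⟩ := nonempty_punct hℓ hd
  -- a point of the punctured spectrum of `B` over the closed point of `A`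
  have hv : (FEt.puncturedSpec C).ι v ≠ closedPoint C := (mem_range_punct C _).1 ⟨v, rfl⟩
  have hv' : spm c ((FEt.puncturedSpec C).ι v) ≠ closedPoint B := fun h =>
    hv (PrimeSpectrum.comap_injective_of_surjective c hc (h.trans (closedPoint_map c).symm))
  obtain ⟨w, hw'⟩ := (mem_range_punct B _).2 hv'
  obtain ⟨Ω, _, _, ξ, hξ⟩ := Etcore.Stalks.exists_geom w
  have hpt : (ξ ≫ (FEt.puncturedSpec B).ι ≫ spm β) default = closedPoint A := by
    rw [Scheme.Hom.comp_apply, hξ, Scheme.Hom.comp_apply, hw', ← Scheme.Hom.comp_apply, hw,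
      Scheme.Hom.comp_apply]
    exact resPt_closedPoint A _
  have h1 : InvQ (ξ ≫ (FEt.puncturedSpec B).ι ≫ spm β) G 0 := BCOpen.invQ_closed _ hpt G
  have h2 : Function.Injective (hp ((FEt.puncturedSpec B).ι ≫ spm β) G 0) := by
    intro x y hxy
    apply h1.injective
    rw [← hpVia_hp ξ ((FEt.puncturedSpec B).ι ≫ spm β) _ rfl G 0 x,
      ← hpVia_hp ξ ((FEt.puncturedSpec B).ι ≫ spm β) _ rfl G 0 y, hxy]
  have h3 : InvQ (spm β) G 0 := BCOpen.invQ_spm β G 0
  have h4 : Function.Injective (hp (FEt.puncturedSpec B).ι ((EtCoh.pull (spm β)).obj G) 0) := by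
    refine (injective_hpVia_iff (FEt.puncturedSpec B).ι (spm β) _ rfl G 0).1 ?_
    intro x y hxy
    obtain ⟨x, rfl⟩ := h3.surjective x
    obtain ⟨y, rfl⟩ := h3.surjective y
    rw [hpVia_hp, hpVia_hp] at hxy
    rw [h2 hxy]
  refine DepthOne.depthGE_one _ (fun z hz => ?_) _ h4
  rw [mem_range_punct, not_not] at hz
  exact hz

/-- S3383 from the core comparison theorem. -/
theorem main (hP : Induct.Pointwise.{u}) {X U S : Scheme.{u}} (f : X ⟶ S) (j : U ⟶ X)
    [IsOpenImmersion j] [QuasiCompact j] [EtCoh.BCCont j]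
    (hnoeth : ∀ y : X, y ∉ Set.range j.base → IsNoetherianRing (X.presheaf.stalk y)) (ℓ : ℕ)
    (hℓ : ℓ.Prime) (q : ℕ) (core : CoreW.{u} {ℓ} (q - 2)) (F : EtCoh.Ab S)
    (hF : EtDepth.IsLTorsion ℓ F) (hf : EtDepth.IsLocAcyclicLE f ℓ (q - 2))
    (hfib : ∀ s : S, EtDepth.DepthGE (pullback.snd j (f.fiberι s))
      (EtCoh.const (f.fiber s) (ZMod ℓ)) q) :
    EtDepth.DepthGE j ((EtCoh.pull f).obj F) q := by
  rw [hP j]
  intro y hy B _ _ _ _ _
  have hN : IsNoetherianRing B :=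
    (Groth.Agent.S0540.result (X.presheaf.stalk y) B).1 (hnoeth y hy)
  have hτ : IsStrictLoc (Hens2.specOf X y B) := isStrictLoc_specOf X y B
  have hτy : Hens2.specOf X y B (closedPoint B) = y := Etrest.VCBaseChange.specOf_closedPoint X y B
  obtain ⟨A, _, _, σ, β, hσ, hβl, hβ⟩ := exists_over f hτ
  have := hσ.henselian
  have := hσ.sepClosed
  have := hτ.henselian
  have := hτ.sepClosed
  obtain ⟨hCl, ρ, hρ, -⟩ := FibreLoc.exists_strictLoc_fiber f hσ hτ β hβ _ rfl
  have := hρ.henselian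
  have := hρ.sepClosed
  obtain ⟨_, hd⟩ := PunctFiber.depthGE_fibre_ring hP f j hσ hτ β hβ _ rfl (by rw [hτy]; exact hy)
    (ZMod ℓ) q (hfib _)
  have e : (EtCoh.pull (spm β)).obj ((EtCoh.pull σ).obj F) ≅
      (EtCoh.pull (Hens2.specOf X y B)).obj ((EtCoh.pull f).obj F) :=
    pullIso hβ F ≪≫ (pullIso (h := Hens2.specOf X y B) (a := f) rfl F).symm
  refine DepthGE.of_iso e ?_
  have hG : EtAcyc.IsLTorsion {ℓ} ((EtCoh.pull σ).obj F) :=
    BCOpen.isLTorsion_pull {ℓ} σ F ((Efface.isLTorsion_iff_acyc hℓ F).1 hF)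
  let ψ : ResidueField A →+* B ⧸ (maximalIdeal A).map β :=
    Ideal.Quotient.lift (maximalIdeal A) ((Ideal.Quotient.mk ((maximalIdeal A).map β)).comp β)
      (fun a ha => by
        rw [RingHom.comp_apply, Ideal.Quotient.eq_zero_iff_mem]
        exact Ideal.mem_map_of_mem _ ha)
  have hψ : ψ.comp (residue A) = (Ideal.Quotient.mk ((maximalIdeal A).map β)).comp β := by
    ext x; rfl
  have sq := FibreLoc.isPullback_quot β (residue A) residue_surjective
    ((maximalIdeal A).map β) (by rw [ker_residue]) ψ hψ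
  match q, core, hf, hd with
  | 0, _, _, _ => exact fun p hp => absurd hp (Nat.not_lt_zero p)
  | 1, _, _, hd =>
    exact depthGE_one β hℓ (Ideal.Quotient.mk ((maximalIdeal A).map β))
      Ideal.Quotient.mk_surjective ψ sq.w hd _
  | n + 2, core, hf, hd =>
    exact depthGE_two hσ hτ β hβ hℓ core hf
      (Ideal.Quotient.mk ((maximalIdeal A).map β)) Ideal.Quotient.mk_surjective ψ sq hd _ hG

end Groth.Agent.Sga2lef.H107.Acyc
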