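import Groth.Agent.Sga2lef.H107.BCOpen
import Groth.Agent.Sga2lef.H107.DepthSES
import Groth.Agent.Etbc.H234.LerayRange

/-!
# Étale depth along the closed point of a strictly henselian ring and cohomology of the punctured spectrum
-/

set_option autoImplicit false
universe u
open CategoryTheory CategoryTheory.Limits AlgebraicGeometry Opposite IsLocalRing

namespace Groth.Agent.Sga2lef.H107.Punct

open Groth.Agent.Etrest.StrictLoc Groth.Agent.Ega2.LACRB Groth.Agent.Sga1.UlaSL
  Groth.Agent.Sga1.UlaLoc Etcore.HpullCalc DegRB LocRQ DepthSES Groth.Agent.Sga4h.LocCohLES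

section

variable {X U : Scheme.{u}} (j : U ⟶ X) [IsOpenImmersion j] {F : EtCoh.Ab X} {n : ℕ}

/-- Depth `≥ n + 2`: the unit is an isomorphism. -/
theorem isIso_unit_of_depthGE (h : EtDepth.DepthGE j F (n + 2)) :
    IsIso ((EtCoh.pullPushAdj j).unit.app F) := by
  have hm : Mono (EtDual.unitApp j F) := (isZero_locCoh_zero_iff j F).1 (h 0 (by omega))
  have he : Epi (EtDual.unitApp j F) := (isZero_locCoh_one_iff j F).1 (h 1 (by omega))
  exact isIso_of_mono_of_epi (EtDual.unitApp j F)

/-- Depth `≥ n + 2`: the higher direct images vanish in degrees `1 ≤ q ≤ n`. -/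
theorem isZero_Rpush_of_depthGE (h : EtDepth.DepthGE j F (n + 2)) (q : ℕ) (hq1 : 1 ≤ q) (hq : q ≤ n) :
    IsZero ((EtCoh.Rpush j q).obj ((EtCoh.pull j).obj F)) := by
  obtain ⟨p, rfl⟩ : ∃ p, q = p + 1 := ⟨q - 1, by omega⟩
  exact (h (p + 2) (by omega)).of_iso (locCohSuccIso j F p)

/-- Depth `≥ n + 2`: restriction to the open complement is bijective on cohomology in degrees `≤ n`. -/
theorem invQ_of_depthGE (h : EtDepth.DepthGE j F (n + 2)) (q : ℕ) (hq : q ≤ n) : InvQ j F q := by
  have := Groth.Agent.S0101.result j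
  exact (bijective_Hpull_iff _ _ q).1
    ((Groth.Agent.Etbc.H234.LerayRange.Hpull_range_of_isIso_unit j F n (isIso_unit_of_depthGE j h)
    (fun q h1 h2 => isZero_Rpush_of_depthGE j h q h1 h2)).1 q hq)

end

/-- The points outside the image of an open immersion are generalizations-stable: a strict localization at a
point of the open subscheme factors through it. -/
theorem isIso_snd_of_mem {X U : Scheme.{u}} (j : U ⟶ X) [IsOpenImmersion j] {C : Type u} [CommRing C]
    [IsLocalRing C] (τ : Spec (CommRingCat.of C) ⟶ X) (h : τ (closedPoint C) ∈ Set.range j) :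
    IsIso (pullback.snd j τ) := by
  have hs : Function.Surjective (pullback.snd j τ) := by
    intro z
    have hz : τ z ∈ Set.range j := by
      have h1 : z ⤳ closedPoint C := specializes_closedPoint z
      exact (h1.map τ.continuous).mem_open j.isOpenEmbedding.isOpen_range h
    obtain ⟨u, hu⟩ := hz
    obtain ⟨w, -, hw⟩ := Scheme.Pullback.exists_preimage_pullback (f := j) (g := τ) u z hu
    exact ⟨w, hw⟩
  exact (isIso_iff_isOpenImmersion_and_epi_base _).2 ⟨inferInstance, by
    rw [TopCat.epi_iff_surjective]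
    exact hs⟩

section

variable {R : Type u} [CommRing R] [HenselianLocalRing R] [IsSepClosed (ResidueField R)]
  {U : Scheme.{u}} (j : U ⟶ Spec (CommRingCat.of R)) [IsOpenImmersion j] [QuasiCompact j]
  (hj : ∀ z : Spec (CommRingCat.of R), z ∉ Set.range j → z = closedPoint R)
  (F : EtCoh.Ab (Spec (CommRingCat.of R)))

include hj

theorem rqAt_of_invQ (q : ℕ) (h : InvQ j F q) : RQAt j F q := by
  intro z
  by_cases hz : z ∈ Set.range j
  · obtain ⟨C, _, _, τ, hτ, hx⟩ := exists_isStrictLoc _ z
    have := isIso_snd_of_mem j τ (hx ▸ hz)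
    exact ⟨C, inferInstance, inferInstance, τ, hτ, hx, RQ.of_isIso _ _ _ _⟩
  · refine ⟨R, inferInstance, inferInstance, 𝟙 _, isStrictLoc_id R, ?_, ?_⟩
    · exact (hj z hz).symm
    · have h1 : RQ F j (𝟙 _) q := h.of_iso ((EtpbcA.PullFLC.pullId _).app F).symm
      exact h1.of_square (pullback.fst j (𝟙 _)) (𝟙 _)
        (by rw [pullback.condition]) (Category.id_comp _)

/-- The closed point of a strictly henselian ring: étale depth `≥ n + 2` from the cohomology of the punctured
spectrum in degrees `≤ n`. -/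
theorem depthGE_of_invQ (n : ℕ) (h : ∀ q : ℕ, q ≤ n → InvQ j F q) : EtDepth.DepthGE j F (n + 2) :=
  depthGE_of_unit j F n (LocRQ.isIso_unit (rqAt_of_invQ j hj F 0 (h 0 (Nat.zero_le n))))
    (fun q h1 h2 => LocRQ.isZero_Rpush q h1 (rqAt_of_invQ j hj F q (h q h2)))

end

end Groth.Agent.Sga2lef.H107.Punct
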