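import Groth.Agent.Sga2lef.H107.LocRQ
import Groth.Agent.EtpbcB.StrictLocStar
import Groth.Agent.EtpbcB.TorsEtN
import Groth.Agent.Sga1.UlaLoc
import Groth.Agent.Etcore.HpullEq
import Groth.Agent.Sga4h.EtaleRes
import Groth.Agent.Etcore.ShriekBasic
import Groth.Prelude.Def_EtAcyc

/-!
# Base change for quasi-compact open immersions and locally acyclic morphisms

`f : X ⟶ S` locally `n`-acyclic for `L` (`EtAcyc.IsLocAcyclicN`), `k : V ⟶ S` a quasi-compact open
immersion with base change `k' : X' ⟶ X`, `I` an `L`-torsion sheaf on `V` with `R^q k_* I = 0` for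
`1 ≤ q ≤ n`, `G = f⁻¹ k_* I`.  Then `G ⟶ k'_* k'⁻¹ G` is an isomorphism and `R^q k'_* k'⁻¹ G = 0` for
`1 ≤ q ≤ n`.
-/

set_option autoImplicit false
set_option backward.isDefEq.respectTransparency.types false
universe u
open CategoryTheory CategoryTheory.Limits AlgebraicGeometry Opposite IsLocalRing

namespace Groth.Agent.Sga2lef.H107.BCOpen

open Groth.Agent.Etrest.StrictLoc Groth.Agent.Ega2.LACRB Groth.Agent.Sga1.UlaSL
  Groth.Agent.Sga1.UlaLoc Etcore.HpullCalc DegRB LocRQ

/-- `L`-torsion sheaves are the `N`-torsion sheaves for `N` the set of positive integers with prime factors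
in `L`. -/
theorem isLTorsion_iff {X : Scheme.{u}} (L : Set ℕ) (F : EtCoh.Ab X) :
    EtAcyc.IsLTorsion L F ↔ EtpbcB.TorsEtN.TorsionN {m | EtAcyc.PrimesIn L m} F := Iff.rfl

theorem isLTorsion_pull {X Y : Scheme.{u}} (L : Set ℕ) (f : X ⟶ Y) (F : EtCoh.Ab Y)
    (hF : EtAcyc.IsLTorsion L F) : EtAcyc.IsLTorsion L ((EtCoh.pull f).obj F) :=
  EtpbcB.TorsEtN.torsionN_pull _ f F hF

theorem isLTorsion_of_iso {X : Scheme.{u}} (L : Set ℕ) {F G : EtCoh.Ab X} (e : F ≅ G)
    (hF : EtAcyc.IsLTorsion L F) : EtAcyc.IsLTorsion L G :=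
  EtpbcB.TorsEtN.torsionN_of_epi (N := {m | EtAcyc.PrimesIn L m}) e.hom hF

theorem invQ_closed {A : Type u} [CommRing A] [HenselianLocalRing A] [IsSepClosed (ResidueField A)]
    {Ω : Type u} [Field Ω] (p : Spec (CommRingCat.of Ω) ⟶ Spec (CommRingCat.of A))
    (hp : p default = closedPoint A) (G : EtCoh.Ab (Spec (CommRingCat.of A))) : InvQ p G 0 :=
  (bijective_hp_zero_iff p G).2 ((bijective_unitSec_iff p G).2
    (EtpbcB.StrictLocStar.UB_closed p hp G))

/-- Local homomorphisms of strictly henselian rings induce isomorphisms on cohomology. -/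
theorem invQ_spm {A C : Type u} [CommRing A] [HenselianLocalRing A] [IsSepClosed (ResidueField A)]
    [CommRing C] [HenselianLocalRing C] [IsSepClosed (ResidueField C)] (φ : A →+* C) [IsLocalHom φ]
    (G : EtCoh.Ab (Spec (CommRingCat.of A))) (q : ℕ) : InvQ (spm φ) G q := by
  rcases Nat.eq_zero_or_pos q with rfl | hq
  · refine InvQ.of_comp_right (h' := resPt C) (invQ_closed _ (resPt_closedPoint C _) _)
      (invQ_closed _ ?_ _)
    rw [Scheme.Hom.comp_apply, resPt_closedPoint, closedPoint_map]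
  · exact InvQ.of_subsingleton _ _ _ (Groth.Agent.S0073.result A _ q hq)
      (Groth.Agent.S0073.result C _ q hq)

/-- The unit of an open immersion is an isomorphism at a direct image. -/
theorem isIso_unit_push {V S : Scheme.{u}} (k : V ⟶ S) [IsOpenImmersion k] (I : EtCoh.Ab V) :
    IsIso ((EtCoh.pullPushAdj k).unit.app ((EtCoh.push k).obj I)) := by
  have := Groth.Agent.Sga4h.EtaleRes.jCont k
  have h1 := (EtCoh.pullPushAdj k).right_triangle_components I
  have h2 : IsIso ((EtCoh.push k).map ((EtCoh.pullPushAdj k).counit.app I)) := inferInstance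
  have h3 : IsIso ((EtCoh.pullPushAdj k).unit.app ((EtCoh.push k).obj I) ≫
      (EtCoh.push k).map ((EtCoh.pullPushAdj k).counit.app I)) := by
    rw [h1]; exact IsIso.id _
  exact IsIso.of_isIso_comp_right _ ((EtCoh.push k).map ((EtCoh.pullPushAdj k).counit.app I))

/-- `k⁻¹ k_* I ≅ I` for an open immersion. -/
theorem nonempty_counitIso {V S : Scheme.{u}} (k : V ⟶ S) [IsOpenImmersion k] (I : EtCoh.Ab V) :
    Nonempty ((EtCoh.pull k).obj ((EtCoh.push k).obj I) ≅ I) := by
  have := Groth.Agent.Sga4h.EtaleRes.jCont k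
  exact ⟨asIso ((EtCoh.pullPushAdj k).counit.app I)⟩

section

variable {X S V : Scheme.{u}} (f : X ⟶ S) (k : V ⟶ S) [IsOpenImmersion k] [QuasiCompact k]
  (I : EtCoh.Ab V)

/-- Strict localizations of the base: the cohomology of `k_* I` on `Spec A` and on `V ×_S Spec A`. -/
theorem rq_base (q : ℕ) (hv : 0 < q → IsZero ((EtCoh.Rpush k q).obj I)) {A : Type u} [CommRing A]
    [IsLocalRing A] (σ : Spec (CommRingCat.of A) ⟶ S) (hσ : IsStrictLoc σ) :
    RQ ((EtCoh.push k).obj I) (pullback.snd k σ) σ q := by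
  have := hσ.henselian
  have := hσ.sepClosed
  rcases Nat.eq_zero_or_pos q with rfl | hq
  · have := isIso_unit_push k I
    exact rq_zero_of_isIso_unit k _ σ hσ
  · refine InvQ.of_subsingleton _ _ _ (Groth.Agent.S0073.result A _ q hq) ?_
    obtain ⟨e⟩ := nonempty_counitIso k I
    obtain ⟨_, _, hsh, h2⟩ := exists_specOf hσ _ rfl
    have h1 := EtpbcB.PBCVan.van_of_isZero_Rpush k I q (hv hq) (σ (closedPoint A)) A
    rw [h2] at h1
    have h3 : Subsingleton (EtCoh.H (pullback k σ) ((EtCoh.pull (pullback.fst k σ)).obj I) q) := h1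
    have h4 : Subsingleton (EtCoh.H (pullback k σ) ((EtCoh.pull (pullback.fst k σ)).obj
        ((EtCoh.pull k).obj ((EtCoh.push k).obj I))) q) := by
      have := Etcore.EtInst.HHcongr ((EtCoh.pull (pullback.fst k σ)).mapIso e) q
      exact this.toEquiv.subsingleton_congr.2 h3
    have h5 := (EtpbcB.IsoTransport.HPullComp (pullback.fst k σ) k
      (pullback.fst _ _ ≫ k) rfl ((EtCoh.push k).obj I) q).toEquiv.subsingleton_congr.2 h4
    exact (EtpbcB.IsoTransport.HPullComp (pullback.snd k σ) σ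
      (pullback.fst _ _ ≫ k) pullback.condition.symm ((EtCoh.push k).obj I) q).toEquiv.subsingleton_congr.1 h5

end

/-- A property of all morphisms of strict localizations given by `OnStrictLocalizations`, in terms of
`IsStrictLoc`. -/
theorem of_onStrictLocalizations {X S : Scheme.{u}} {f : X ⟶ S}
    {P : ∀ ⦃X' Y' : Scheme.{u}⦄, (X' ⟶ Y') → Prop} (hf : EtAcyc.OnStrictLocalizations f P)
    {A C : Type u} [CommRing A] [IsLocalRing A] [CommRing C] [IsLocalRing C]
    {σ : Spec (CommRingCat.of A) ⟶ S} {τ : Spec (CommRingCat.of C) ⟶ X} (hσ : IsStrictLoc σ)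
    (hτ : IsStrictLoc τ) (β : A →+* C) [hβl : IsLocalHom β] (hβ : spm β ≫ σ = τ ≫ f) : P (spm β) := by
  obtain ⟨_, _, hC, hτ'⟩ := exists_specOf hτ _ rfl
  obtain ⟨_, _, hA, hσ'⟩ := exists_specOf hσ (f (τ (closedPoint C))) (by
    rw [← Scheme.Hom.comp_apply, ← hβ, Scheme.Hom.comp_apply, closedPoint_map])
  let _ : Algebra A C := β.toAlgebra
  have : IsLocalHom (algebraMap A C) := hβl
  exact hf (τ (closedPoint C)) A C ((Groth.Agent.Etrest.VCBaseChange.specOf_comm f _ A C β).2
    (by rw [hσ', hτ', hβ]))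

section

variable {X S V X' : Scheme.{u}} {f : X ⟶ S} {L : Set ℕ} {n : ℕ} {k : V ⟶ S} [IsOpenImmersion k]
  [QuasiCompact k] {I : EtCoh.Ab V} {k' : X' ⟶ X} {f' : X' ⟶ V}

theorem rq_top (hf : EtAcyc.IsLocAcyclicN f L n) (hI : EtAcyc.IsLTorsion L I)
    (h : IsPullback k' f' f k) (q : ℕ) (hq : q ≤ n) (hv : 0 < q → IsZero ((EtCoh.Rpush k q).obj I))
    {C : Type u} [CommRing C] [IsLocalRing C] (τ : Spec (CommRingCat.of C) ⟶ X) (hτ : IsStrictLoc τ) :
    RQ ((EtCoh.pull f).obj ((EtCoh.push k).obj I)) (pullback.snd k' τ) τ q := by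
  obtain ⟨A, _, _, σ, β, hσ, hβl, hβ⟩ := exists_over f hτ
  have := hσ.henselian
  have := hσ.sepClosed
  have := hτ.henselian
  have := hτ.sepClosed
  have hac : EtAcyc.IsAcyclicN (spm β) L n := of_onStrictLocalizations hf hσ hτ β hβ
  -- the étale `Spec A`-scheme `V ×_S Spec A`
  let W : (Spec (CommRingCat.of A)).Etale := Scheme.Etale.mk (pullback.snd k σ)
  have h0 : RQ ((EtCoh.push k).obj I) (pullback.snd k σ) σ q := rq_base k I q hv σ hσ
  obtain ⟨e⟩ := nonempty_counitIso k I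
  have hT : EtAcyc.IsLTorsion L ((EtCoh.pull (pullback.snd k σ ≫ σ)).obj ((EtCoh.push k).obj I)) := by
    refine isLTorsion_of_iso L ?_ (isLTorsion_pull L (pullback.fst k σ) I hI)
    exact (EtCoh.pull (pullback.fst k σ)).mapIso e.symm ≪≫ pullIso pullback.condition _
  have h1 : RQ ((EtCoh.push k).obj I) (pullback.fst (pullback.snd k σ) (spm β))
      (pullback.snd k σ ≫ σ) q :=
    (bijective_Hpull_iff _ _ q).1 ((hac W _ hT).1 q hq)
  have h2 : RQ ((EtCoh.push k).obj I) (pullback.snd (pullback.snd k σ) (spm β) ≫ spm β) σ q :=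
    h1.comp h0 rfl _ pullback.condition
  have h3 : RQ ((EtCoh.push k).obj I) (pullback.snd (pullback.snd k σ) (spm β)) (spm β ≫ σ) q :=
    RQ.of_comp_left (invQ_spm β _ q) rfl _ rfl h2
  rw [rq_pull_iff ((EtCoh.push k).obj I) f τ (τ ≫ f) rfl]
  -- compare the two pullbacks
  have s1 : IsPullback (pullback.fst k' τ ≫ f') (pullback.snd k' τ) k (τ ≫ f) :=
    (IsPullback.of_hasPullback k' τ).paste_horiz h.flip
  have s2 : IsPullback (pullback.fst (pullback.snd k σ) (spm β) ≫ pullback.fst k σ)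
      (pullback.snd (pullback.snd k σ) (spm β)) k (τ ≫ f) := by
    have := (IsPullback.of_hasPullback (pullback.snd k σ) (spm β)).paste_horiz
      (IsPullback.of_hasPullback k σ)
    rwa [hβ] at this
  let e' := s1.isoIsPullback _ _ s2
  refine h3.of_square e'.hom (𝟙 _) ?_ ((Category.id_comp _).trans hβ)
  rw [Category.comp_id]
  exact (IsPullback.isoIsPullback_hom_snd _ _ s1 s2).symm

variable (hf : EtAcyc.IsLocAcyclicN f L n) (hI : EtAcyc.IsLTorsion L I) (h : IsPullback k' f' f k)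

include hf hI h in
theorem isIso_unit : IsIso ((EtCoh.pullPushAdj k').unit.app
    ((EtCoh.pull f).obj ((EtCoh.push k).obj I))) := by
  have : IsOpenImmersion k' := MorphismProperty.of_isPullback h.flip ‹IsOpenImmersion k›
  have : QuasiCompact k' := MorphismProperty.of_isPullback h.flip ‹QuasiCompact k›
  refine LocRQ.isIso_unit fun x => ?_
  obtain ⟨C, _, _, τ, hτ, hx⟩ := exists_isStrictLoc X x
  exact ⟨C, inferInstance, inferInstance, τ, hτ, hx, rq_top hf hI h 0 (Nat.zero_le _)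
    (fun h0 => absurd h0 (lt_irrefl 0)) τ hτ⟩

include hf hI h in
theorem isZero_Rpush (q : ℕ) (hq1 : 1 ≤ q) (hq : q ≤ n) (hv : IsZero ((EtCoh.Rpush k q).obj I)) :
    IsZero ((EtCoh.Rpush k' q).obj ((EtCoh.pull k').obj
      ((EtCoh.pull f).obj ((EtCoh.push k).obj I)))) := by
  have : IsOpenImmersion k' := MorphismProperty.of_isPullback h.flip ‹IsOpenImmersion k›
  have : QuasiCompact k' := MorphismProperty.of_isPullback h.flip ‹QuasiCompact k›
  refine LocRQ.isZero_Rpush q hq1 fun x => ?_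
  obtain ⟨C, _, _, τ, hτ, hx⟩ := exists_isStrictLoc X x
  exact ⟨C, inferInstance, inferInstance, τ, hτ, hx, rq_top hf hI h q hq (fun _ => hv) τ hτ⟩

end

end Groth.Agent.Sga2lef.H107.BCOpen
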