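import Groth.Agent.Ega2.LACRB

/-!
# Bijectivity of one pullback map on cohomology (degreewise version of `Ega2.LACRB`)

`RQ F h a q`: for `a : T ⟶ X`, `h : T' ⟶ T` the pullback map `H^q(T, a⁻¹F) → H^q(T', h⁻¹a⁻¹F)` is
bijective.
-/

set_option autoImplicit false
universe u

open CategoryTheory CategoryTheory.Limits AlgebraicGeometry Opposite
open scoped Groth.Agent.Etcore.EtInst
open Groth.Agent.Etcore.EtInst Groth.Agent.Etcore.HpullCalc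

namespace Groth.Agent.Sga2lef.H107.DegRB

open Groth.Agent.Ega2.LACRB

variable {X Y T T' T'' S S' : Scheme.{u}}

/-- The pullback map `H^q(T, G) → H^q(T', h⁻¹G)` is bijective. -/
def InvQ (h : T' ⟶ T) (G : EtCoh.Ab T) (q : ℕ) : Prop :=
  Function.Bijective (hp h G q)

variable {q : ℕ}

theorem InvQ.of_iso {h : T' ⟶ T} {G G' : EtCoh.Ab T} (H : InvQ h G q) (e : G ≅ G') : InvQ h G' q :=
  bijective_hp_of_iso h e H

theorem InvQ.comp {h' : T'' ⟶ T'} {h : T' ⟶ T} {G : EtCoh.Ab T} (H' : InvQ h' ((EtCoh.pull h).obj G) q)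
    (H : InvQ h G q) : InvQ (h' ≫ h) G q :=
  (bijective_hp_comp h' h G q H).2 H'

theorem InvQ.of_comp_left {h' : T'' ⟶ T'} {h : T' ⟶ T} {G : EtCoh.Ab T} (H : InvQ h G q)
    (H'' : InvQ (h' ≫ h) G q) : InvQ h' ((EtCoh.pull h).obj G) q :=
  (bijective_hp_comp h' h G q H).1 H''

theorem InvQ.of_comp_right {h' : T'' ⟶ T'} {h : T' ⟶ T} {G : EtCoh.Ab T}
    (H' : InvQ h' ((EtCoh.pull h).obj G) q) (H'' : InvQ (h' ≫ h) G q) : InvQ h G q := by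
  have h1 : ⇑(hp (h' ≫ h) G q) = ⇑(hpVia h' h (h' ≫ h) rfl G q) ∘ ⇑(hp h G q) :=
    funext fun x => (hpVia_hp h' h (h' ≫ h) rfl G q x).symm
  have h2 : Function.Bijective (hp (h' ≫ h) G q) := H''
  rw [h1] at h2
  exact (Function.Bijective.of_comp_iff' ((bijective_hpVia_iff h' h _ rfl G q).2 H') _).1 h2

theorem InvQ.of_isIso (h : T' ⟶ T) [IsIso h] (G : EtCoh.Ab T) (q : ℕ) : InvQ h G q :=
  Inv.of_isIso h G q

theorem InvQ.congr {h h₂ : T' ⟶ T} {G : EtCoh.Ab T} (H : InvQ h G q) (e : h = h₂) : InvQ h₂ G q := e ▸ H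

/-- Both sides vanish. -/
theorem InvQ.of_subsingleton (h : T' ⟶ T) (G : EtCoh.Ab T) (q : ℕ)
    (h1 : Subsingleton (EtCoh.H T G q)) (h2 : Subsingleton (EtCoh.H T' ((EtCoh.pull h).obj G) q)) :
    InvQ h G q := by
  have h1' : Subsingleton (HH T G q) := h1
  have h2' : Subsingleton (HH T' ((EtCoh.pull h).obj G) q) := h2
  exact ⟨fun a b _ => Subsingleton.elim a b, fun b => ⟨0, Subsingleton.elim _ _⟩⟩

/-- The pullback map `H^q(T, a⁻¹F) → H^q(T', h⁻¹a⁻¹F)` is bijective. -/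
def RQ (F : EtCoh.Ab X) (h : T' ⟶ T) (a : T ⟶ X) (q : ℕ) : Prop := InvQ h ((EtCoh.pull a).obj F) q

theorem invQ_pull_iff {h : T' ⟶ T} {b : T ⟶ S} {a : S ⟶ X} {k : T ⟶ X} (w : b ≫ a = k) (F : EtCoh.Ab X) :
    InvQ h ((EtCoh.pull b).obj ((EtCoh.pull a).obj F)) q ↔ RQ F h k q :=
  ⟨fun H => InvQ.of_iso H (pullIso w F), fun H => InvQ.of_iso H (pullIso w F).symm⟩

theorem RQ.comp {F : EtCoh.Ab X} {h : T' ⟶ T} {a : T ⟶ X} {h' : T'' ⟶ T'} {a' : T' ⟶ X} (H' : RQ F h' a' q)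
    (H : RQ F h a q) (w : h ≫ a = a') (k : T'' ⟶ T) (hk : h' ≫ h = k) : RQ F k a q :=
  (InvQ.comp ((invQ_pull_iff w F).2 H') H).congr hk

theorem RQ.of_comp_left {F : EtCoh.Ab X} {h : T' ⟶ T} {a : T ⟶ X} {h' : T'' ⟶ T'} {a' : T' ⟶ X}
    (H : RQ F h a q) (w : h ≫ a = a') (k : T'' ⟶ T) (hk : h' ≫ h = k) (Hk : RQ F k a q) : RQ F h' a' q :=
  (invQ_pull_iff w F).1 (InvQ.of_comp_left H (InvQ.congr Hk hk.symm))

theorem RQ.of_comp_right {F : EtCoh.Ab X} {h : T' ⟶ T} {a : T ⟶ X} {h' : T'' ⟶ T'} {a' : T' ⟶ X}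
    (H' : RQ F h' a' q) (w : h ≫ a = a') (k : T'' ⟶ T) (hk : h' ≫ h = k) (Hk : RQ F k a q) : RQ F h a q :=
  InvQ.of_comp_right ((invQ_pull_iff w F).2 H') (InvQ.congr Hk hk.symm)

theorem RQ.of_isIso (F : EtCoh.Ab X) (h : T' ⟶ T) [IsIso h] (a : T ⟶ X) (q : ℕ) : RQ F h a q :=
  InvQ.of_isIso h _ q

theorem RQ.congr {F : EtCoh.Ab X} {h h₂ : T' ⟶ T} {a a₂ : T ⟶ X} (H : RQ F h a q) (e : h = h₂)
    (e' : a = a₂) : RQ F h₂ a₂ q := by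
  subst e; subst e'; exact H

/-- transport along isomorphisms of the source and the target -/
theorem RQ.of_square {F : EtCoh.Ab X} {h : T' ⟶ T} {a : T ⟶ X} (H : RQ F h a q) {k : S' ⟶ S} {b : S ⟶ X}
    (e' : S' ⟶ T') [IsIso e'] (e : S ⟶ T) [IsIso e] (w : k ≫ e = e' ≫ h) (w' : e ≫ a = b) : RQ F k b q :=
  (RQ.of_isIso F e a q).of_comp_left w' (e' ≫ h) w ((RQ.of_isIso F e' (h ≫ a) q).comp H rfl _ rfl)

/-- change of the sheaf -/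
theorem rq_pull_iff (F : EtCoh.Ab X) (g : Y ⟶ X) (a : T ⟶ Y) (b : T ⟶ X) (w : a ≫ g = b)
    (h : T' ⟶ T) : RQ ((EtCoh.pull g).obj F) h a q ↔ RQ F h b q := invQ_pull_iff w F

theorem RQ.of_iso {F G : EtCoh.Ab X} {h : T' ⟶ T} {a : T ⟶ X} (H : RQ F h a q) (e : F ≅ G) : RQ G h a q :=
  InvQ.of_iso H ((EtCoh.pull a).mapIso e)

end Groth.Agent.Sga2lef.H107.DegRB
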