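import Groth.Agent.Sga2lef.H107.BCOpen
import Groth.Agent.Sga2lef.H107.DepthSES
import Groth.Agent.Sga2lef.H107.Efface
import Mathlib.AlgebraicGeometry.Fiber

/-!
# The induction on `p` for the additivity of étale depth (S3385)

Everything is relative to three inputs: the pointwise characterization of étale depth (S3365), the case
`p = 0` (S3383), and the fact that `EtDepth.IsLocAcyclicLE` implies `EtAcyc.IsLocAcyclicN`.
-/

set_option autoImplicit false
universe u
open CategoryTheory CategoryTheory.Limits AlgebraicGeometry Opposite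

namespace Groth.Agent.Sga2lef.H107.Induct

open DepthSES Efface

/-- The pointwise characterization of étale depth (S3365). -/
def Pointwise : Prop := ∀ {X U : Scheme.{u}} (j : U ⟶ X) [IsOpenImmersion j] [QuasiCompact j]
  [EtCoh.BCCont j] (F : EtCoh.Ab X) (n : ℕ), EtDepth.DepthGE j F n ↔
    ∀ y : X, y ∉ Set.range j.base → EtDepth.DepthAtGE X F y n

section

variable {X U S V : Scheme.{u}} (f : X ⟶ S) (j : U ⟶ X) [IsOpenImmersion j] [QuasiCompact j]
  (k : V ⟶ S) [IsOpenImmersion k] [QuasiCompact k]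

/-- Depth along `f⁻¹(Z)` is at most the depth along `Y` when `f(Y) ⊆ Z`. -/
theorem depthGE_of_preimage (hP : Pointwise.{u})
    (hYZ : ∀ y : X, y ∉ Set.range j.base → f.base y ∉ Set.range k.base)
    {X' : Scheme.{u}} {k' : X' ⟶ X} {f' : X' ⟶ V} (h : IsPullback k' f' f k) (G : EtCoh.Ab X) (n : ℕ)
    (hG : EtDepth.DepthGE k' G n) : EtDepth.DepthGE j G n := by
  have : IsOpenImmersion k' := MorphismProperty.of_isPullback h.flip ‹IsOpenImmersion k›
  have : QuasiCompact k' := MorphismProperty.of_isPullback h.flip ‹QuasiCompact k›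
  rw [hP j G n]
  intro y hy
  refine (hP k' G n).1 hG y ?_
  rintro ⟨x', rfl⟩
  refine hYZ _ hy ⟨f'.base x', ?_⟩
  have := congrArg (fun t => t.base x') h.w
  exact this.symm

omit [QuasiCompact j] [IsOpenImmersion k] [QuasiCompact k] in
/-- The fibres over points outside `Z` do not meet `Y`. -/
theorem depthGE_fiber (hYZ : ∀ y : X, y ∉ Set.range j.base → f.base y ∉ Set.range k.base)
    (s : S) (hs : s ∈ Set.range k.base) (F : EtCoh.Ab (f.fiber s)) (q : ℕ) :
    EtDepth.DepthGE (pullback.snd j (f.fiberι s)) F q := by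
  have : Surjective (pullback.snd j (f.fiberι s)) := by
    refine ⟨fun z => ?_⟩
    have hz : f.fiberι s z ∈ Set.range j := by
      by_contra hcon
      refine hYZ _ hcon ?_
      have : f.base (f.fiberι s z) = s := by
        have := (f.range_fiberι s).le ⟨z, rfl⟩
        exact this
      rw [this]
      exact hs
    obtain ⟨u, hu⟩ := hz
    obtain ⟨w, -, hw⟩ := Scheme.Pullback.exists_preimage_pullback (f := j) (g := f.fiberι s) u z hu
    exact ⟨w, hw⟩
  have : IsIso (pullback.snd j (f.fiberι s)) := by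
    exact (isIso_iff_isOpenImmersion_and_epi_base _).2 ⟨inferInstance, by
      rw [TopCat.epi_iff_surjective]
      exact (pullback.snd j (f.fiberι s)).surjective⟩
  intro p _
  exact Groth.Agent.Sga4B.LocCohTriv.isZero_locCoh_of_isIso _ F p

end

/-- `EtDepth.IsLocAcyclicLE` is monotone in the degree. -/
theorem isLocAcyclicLE_mono {X S : Scheme.{u}} {f : X ⟶ S} {ℓ m n : ℕ} (h : EtDepth.IsLocAcyclicLE f ℓ n)
    (hmn : m ≤ n) : EtDepth.IsLocAcyclicLE f ℓ m := by
  intro x RS RX _ _ _ _ _ _ _ _ _ _ _ _ hc Ω _ _ _ _ q hq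
  exact h x RS RX hc Ω q (hq.trans hmn)

section

variable {X U S V : Scheme.{u}} (f : X ⟶ S) (j : U ⟶ X) [IsOpenImmersion j] [QuasiCompact j]
  (k : V ⟶ S) [IsOpenImmersion k] [QuasiCompact k]

omit [QuasiCompact k] in
/-- depth of `k_* I` -/
theorem depthGE_push (I : EtCoh.Ab V) (hv : ∀ q : ℕ, 0 < q → IsZero ((EtCoh.Rpush k q).obj I)) (n : ℕ) :
    EtDepth.DepthGE k ((EtCoh.push k).obj I) n := by
  obtain ⟨e⟩ := BCOpen.nonempty_counitIso k I
  refine DepthGE.mono (n := n + 2) (depthGE_of_unit k _ n (BCOpen.isIso_unit_push k I) ?_) (by omega)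
  intro q hq1 _
  exact (hv q hq1).of_iso ((EtCoh.Rpush k q).mapIso e)

/-- depth of `f⁻¹ k_* I` -/
theorem depthGE_pull_push (hP : Pointwise.{u})
    (hYZ : ∀ y : X, y ∉ Set.range j.base → f.base y ∉ Set.range k.base) (L : Set ℕ) (n : ℕ)
    (hf : EtAcyc.IsLocAcyclicN f L n) (I : EtCoh.Ab V) (hI : EtAcyc.IsLTorsion L I)
    (hv : ∀ q : ℕ, 0 < q → IsZero ((EtCoh.Rpush k q).obj I)) :
    EtDepth.DepthGE j ((EtCoh.pull f).obj ((EtCoh.push k).obj I)) (n + 2) := by
  have h := IsPullback.of_hasPullback f k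
  have : IsOpenImmersion (pullback.fst f k) := inferInstance
  refine depthGE_of_preimage f j k hP hYZ h _ _ (depthGE_of_unit _ _ n ?_ ?_)
  · exact BCOpen.isIso_unit hf hI h
  · intro q hq1 hq
    exact BCOpen.isZero_Rpush hf hI h q hq1 hq (hv q hq1)

/-- The induction. -/
theorem main (hP : Pointwise.{u})
    (hYZ : ∀ y : X, y ∉ Set.range j.base → f.base y ∉ Set.range k.base) {ℓ : ℕ} (hℓ : ℓ.Prime) (q : ℕ)
    (h0 : ∀ F : EtCoh.Ab S, EtDepth.IsLTorsion ℓ F → EtDepth.IsLocAcyclicLE f ℓ (q - 2) →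
      EtDepth.DepthGE j ((EtCoh.pull f).obj F) q)
    (hN : ∀ n, EtDepth.IsLocAcyclicLE f ℓ n → EtAcyc.IsLocAcyclicN f {ℓ} n) (p : ℕ) :
    ∀ F : EtCoh.Ab S, EtDepth.IsLTorsion ℓ F → EtDepth.IsLocAcyclicLE f ℓ (p + q - 2) →
      EtDepth.DepthGE k F p → EtDepth.DepthGE j ((EtCoh.pull f).obj F) (p + q) := by
  induction p with
  | zero =>
    intro F hF ha _
    rw [Nat.zero_add] at ha ⊢
    exact h0 F hF ha
  | succ p ih =>
    intro F hF ha hb
    obtain ⟨I, i, hi, hI, hv⟩ := exists_efface {ℓ} ((EtCoh.pull k).obj F)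
      ((isLTorsion_iff_acyc hℓ _).1 (isLTorsion_pull k F hF))
    have hv' : ∀ q : ℕ, 0 < q → IsZero ((EtCoh.Rpush k q).obj I) := fun q hq => hv k q hq
    -- the short exact sequence `0 ⟶ F ⟶ k_* I ⟶ Q ⟶ 0`
    let φ : F ⟶ (EtCoh.push k).obj I := (EtCoh.pullPushAdj k).unit.app F ≫ (EtCoh.push k).map i
    have hφ : Mono φ := by
      have h1 : Mono ((EtCoh.pullPushAdj k).unit.app F) := mono_unit_of_depthGE k hb
      have h2 : Mono ((EtCoh.push k).map i) := inferInstance
      exact mono_comp _ _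
    let T : ShortComplex (EtCoh.Ab S) := ShortComplex.mk φ (cokernel.π φ) (cokernel.condition φ)
    have hT : T.ShortExact :=
      { exact := ShortComplex.exact_of_g_is_cokernel _ (cokernelIsCokernel φ)
        mono_f := hφ
        epi_g := inferInstanceAs (Epi (cokernel.π φ)) }
    have hQ : EtDepth.IsLTorsion ℓ T.X₃ := by
      have : Epi T.g := hT.epi_g
      exact isLTorsion_of_epi hℓ T.g (isLTorsion_push k I ((isLTorsion_iff_acyc hℓ I).2 hI))
    have hbQ : EtDepth.DepthGE k T.X₃ p := depthGE_X₃ k hT (depthGE_push k I hv' p) hb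
    have ihQ := ih T.X₃ hQ (isLocAcyclicLE_mono ha (by omega)) hbQ
    have := Groth.Agent.S0101.result f
    have hT' : (T.map (EtCoh.pull f)).ShortExact := hT.map_of_exact (EtCoh.pull f)
    have hG : EtDepth.DepthGE j (T.map (EtCoh.pull f)).X₂ (p + 1 + q) :=
      DepthGE.mono (depthGE_pull_push f j k hP hYZ {ℓ} (p + 1 + q - 2) (hN _ ha) I hI hv') (by omega)
    exact depthGE_X₁ j hT' hG (DepthGE.mono ihQ (by omega))

end

end Groth.Agent.Sga2lef.H107.Induct
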