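import Groth.Agent.Sga2lef.H107.FibreLoc
import Groth.Agent.Sga2lef.H107.Induct

/-!
# The fibre hypothesis on étale depth, on strict localizations

If the fibre `X_s` has étale depth `≥ q` along `Y ∩ X_s` for `ℤ/ℓ`, then for a strict localization `B` of `X` at
a point of `Y ∩ X_s`, over a strict localization `A` of `S` at `s`, the ring `B ⧸ m_A B` has étale depth `≥ q` at its
closed point.
-/

set_option autoImplicit false
universe u
open CategoryTheory CategoryTheory.Limits AlgebraicGeometry Opposite IsLocalRing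

namespace Groth.Agent.Sga2lef.H107.PunctFiber

open Groth.Agent.Etrest.StrictLoc Groth.Agent.Sga1.UlaSL

/-- The pointwise characterization in terms of strict localizations. -/
theorem depthGE_punct_of_isStrictLoc {X : Scheme.{u}} {F : EtCoh.Ab X} {C : Type u} [CommRing C]
    [IsLocalRing C] {τ : Spec (CommRingCat.of C) ⟶ X} (hτ : IsStrictLoc τ) (x : X)
    (hx : τ (closedPoint C) = x) (n : ℕ) (h : EtDepth.DepthAtGE X F x n) :
    EtDepth.DepthGE (FEt.puncturedSpec C).ι ((EtCoh.pull τ).obj F) n := by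
  obtain ⟨_, _, _, h2⟩ := exists_specOf hτ x hx
  rw [← h2]
  exact h C

theorem depthGE_punct_of_depthGE (hP : Induct.Pointwise.{u}) {X U : Scheme.{u}} (j : U ⟶ X)
    [IsOpenImmersion j] [QuasiCompact j] {F : EtCoh.Ab X} {C : Type u} [CommRing C]
    [IsLocalRing C] {τ : Spec (CommRingCat.of C) ⟶ X} (hτ : IsStrictLoc τ)
    (hx : τ (closedPoint C) ∉ Set.range j) (n : ℕ) (h : EtDepth.DepthGE j F n) :
    EtDepth.DepthGE (FEt.puncturedSpec C).ι ((EtCoh.pull τ).obj F) n :=
  depthGE_punct_of_isStrictLoc hτ _ rfl n ((hP j F n).1 h _ hx)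

theorem depthGE_fibre_ring (hP : Induct.Pointwise.{u}) {X U S : Scheme.{u}} (f : X ⟶ S) (j : U ⟶ X)
    [IsOpenImmersion j] [QuasiCompact j] {A B : Type u} [CommRing A] [IsLocalRing A] [CommRing B]
    [IsLocalRing B] {σ : Spec (CommRingCat.of A) ⟶ S} {τ : Spec (CommRingCat.of B) ⟶ X}
    (hσ : IsStrictLoc σ) (hτ : IsStrictLoc τ) (β : A →+* B) [IsLocalHom β]
    (hβ : spm β ≫ σ = τ ≫ f) (s : S) (hs : σ (closedPoint A) = s)
    (hy : τ (closedPoint B) ∉ Set.range j) (M : Type) [AddCommGroup M] (q : ℕ)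
    (h : EtDepth.DepthGE (pullback.snd j (f.fiberι s)) (EtCoh.const (f.fiber s) M) q) :
    ∃ (_ : IsLocalRing (B ⧸ (maximalIdeal A).map β)),
      EtDepth.DepthGE (FEt.puncturedSpec (B ⧸ (maximalIdeal A).map β)).ι
        (EtCoh.const (Spec (CommRingCat.of (B ⧸ (maximalIdeal A).map β))) M) q := by
  obtain ⟨hloc, ρ, hρ, hρ1⟩ := FibreLoc.exists_strictLoc_fiber f hσ hτ β hβ s hs
  refine ⟨hloc, ?_⟩
  have hcl : f.fiberι s (ρ (closedPoint _)) = τ (closedPoint B) := by
    have h1 : (ρ ≫ f.fiberι s) (closedPoint (B ⧸ (maximalIdeal A).map β)) =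
        (spm (Ideal.Quotient.mk ((maximalIdeal A).map β)) ≫ τ) (closedPoint _) := by rw [hρ1]
    rw [Scheme.Hom.comp_apply, Scheme.Hom.comp_apply] at h1
    rw [h1]
    congr 1
    have : IsLocalHom (Ideal.Quotient.mk ((maximalIdeal A).map β)) :=
      IsLocalHom.of_surjective _ Ideal.Quotient.mk_surjective
    exact (IsLocalRing.isLocalHom_iff_comap_closedPoint _).1 this
  have hx : ρ (closedPoint _) ∉ Set.range (pullback.snd j (f.fiberι s)) := by
    rintro ⟨w, hw⟩
    refine hy ⟨pullback.fst j (f.fiberι s) w, ?_⟩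
    rw [← hcl, ← hw]
    have := congrArg (fun t => t w) (pullback.condition (f := j) (g := f.fiberι s))
    exact this
  have h2 := depthGE_punct_of_depthGE hP (pullback.snd j (f.fiberι s)) hρ hx q h
  exact DepthSES.DepthGE.of_iso (EtCore.pullConst ρ M) h2

end Groth.Agent.Sga2lef.H107.PunctFiber
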