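import Groth.Agent.Sga2lef.H107.GeomLE
import Groth.Agent.Sga2lef.H107.Punct
import Groth.Agent.Sga2lef.H107.PunctFiber
import Groth.Agent.Etcore.SepClosedRed
import Groth.Agent.S0642

/-!
# Geometric fibres of `(punctured Spec B) ⟶ Spec A`
-/

set_option autoImplicit false
universe u
open CategoryTheory CategoryTheory.Limits AlgebraicGeometry Opposite IsLocalRing

namespace Groth.Agent.Sga2lef.H107.Fibres

open Groth.Agent.Etrest.StrictLoc Groth.Agent.Ega2.LACRB Groth.Agent.Sga1.UlaSL
  Groth.Agent.Sga1.UlaLoc Etcore.HpullCalc DegRB Groth.Agent.Etbc.H188.ZDBase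

/-- An open subscheme and the open subscheme of the preimage form a cartesian square. -/
theorem exists_isPullback_of_range {X X' U W : Scheme.{u}} (j : U ⟶ X) [IsOpenImmersion j]
    (j' : W ⟶ X') [IsOpenImmersion j'] (c : X' ⟶ X)
    (h : ∀ z : X', z ∈ Set.range j' ↔ c z ∈ Set.range j) : ∃ u : W ⟶ U, IsPullback u j' j c := by
  have hr : Set.range j' = Set.range (pullback.snd j c) := by
    ext z
    rw [h z]
    constructor
    · rintro ⟨u, hu⟩
      obtain ⟨w, -, hw⟩ := Scheme.Pullback.exists_preimage_pullback (f := j) (g := c) u z hu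
      exact ⟨w, hw⟩
    · rintro ⟨w, rfl⟩
      refine ⟨pullback.fst j c w, ?_⟩
      have := congrArg (fun t => t w) (pullback.condition (f := j) (g := c))
      exact this
  let e := IsOpenImmersion.isoOfRangeEq j' (pullback.snd j c) hr
  have he : e.hom ≫ pullback.snd j c = j' := IsOpenImmersion.isoOfRangeEq_hom_fac _ _ _
  refine ⟨e.hom ≫ pullback.fst j c, IsPullback.of_iso_pullback ⟨?_⟩ e rfl he⟩
  rw [Category.assoc, pullback.condition, ← Category.assoc, he]

theorem mem_range_punct (R : Type u) [CommRing R] [IsLocalRing R] (z : Spec (CommRingCat.of R)) :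
    z ∈ Set.range (FEt.puncturedSpec R).ι ↔ z ≠ closedPoint R := by
  rw [Scheme.Opens.range_ι]
  exact Iff.rfl

theorem spm_ev (A : Type u) [CommRing A] (a : Spec (CommRingCat.of A)) :
    spm (ev A a) = (Spec (CommRingCat.of A)).fromSpecResidueField a := by
  have h1 := Scheme.Spec.map_residueFieldIso_inv_eq_fromSpecResidueField (CommRingCat.of A) a
  rw [← Spec.map_comp, Scheme.Spec.algebraMap_residueFieldIso_inv] at h1
  exact h1

/-- Algebraic geometric points over the closed point. -/
theorem exists_closed_pt (A : Type u) [CommRing A] [IsLocalRing A] (Ω : Type u) [Field Ω]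
    [Algebra ((Spec (CommRingCat.of A)).residueField (closedPoint A)) Ω]
    [Algebra.IsAlgebraic ((Spec (CommRingCat.of A)).residueField (closedPoint A)) Ω] :
    ∃ φ : ResidueField A →+* Ω, AlgF φ ∧
      spm φ ≫ resPt A = EtAcyc.geomPt (Spec (CommRingCat.of A)) (closedPoint A) Ω := by
  obtain ⟨j, hj⟩ := exists_residueField_hom (resPt A) (closedPoint A) (resPt_closedPoint A _)
  have hjs : Function.Surjective j := by
    have h1 : j.comp (ev A (closedPoint A)) = residue A := by
      rw [← spm_inj]
      rw [spm_comp, spm_ev]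
      exact hj
    intro y
    obtain ⟨x, rfl⟩ := residue_surjective y
    exact ⟨ev A (closedPoint A) x, RingHom.congr_fun h1 x⟩
  let e : (Spec (CommRingCat.of A)).residueField (closedPoint A) ≃+* ResidueField A :=
    RingEquiv.ofBijective j ⟨j.injective, hjs⟩
  refine ⟨(algebraMap _ Ω).comp e.symm.toRingHom, ?_, ?_⟩
  · exact AlgF.comp (AlgF.of_bijective e.symm.surjective) ((algF_algebraMap _ Ω).2 inferInstance)
  · rw [← hj, spm_comp, Category.assoc]
    have h2 : spm e.symm.toRingHom ≫ Spec.map (CommRingCat.ofHom j) = 𝟙 _ := by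
      change spm _ ≫ spm j = _
      rw [← spm_comp]
      have : e.symm.toRingHom.comp j = RingHom.id _ := RingHom.ext fun x => e.symm_apply_apply x
      rw [this, spm_id]
    rw [← Category.assoc (spm e.symm.toRingHom), h2, Category.id_comp]

/-- The geometric closed fibre of the punctured spectrum. -/
theorem closed_fibre {A B : Type u} [CommRing A] [IsLocalRing A] [IsSepClosed (ResidueField A)]
    [CommRing B] [IsLocalRing B] (β : A →+* B) {C : Type u} [CommRing C]
    [HenselianLocalRing C] [IsSepClosed (ResidueField C)] (c : B →+* C) (hc : Function.Surjective c)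
    (ψ : ResidueField A →+* C) (sq : IsPullback (spm c) (spm ψ) (spm β) (resPt A))
    {ℓ n : ℕ} (hℓ : ℓ.Prime) (hd : ∀ q : ℕ, q ≤ n → InvQ (FEt.puncturedSpec C).ι
      (EtCoh.const (Spec (CommRingCat.of C)) (ZMod ℓ)) q)
    {Ω : Type u} [Field Ω] (φ : ResidueField A →+* Ω) (hφ : AlgF φ) :
    EtAcyc.IsAcyclicSchemeN {ℓ} n
      (pullback ((FEt.puncturedSpec B).ι ≫ spm β) (spm φ ≫ resPt A)) := by
  have hcl : IsLocalHom c := IsLocalHom.of_surjective c hc
  obtain ⟨u, hu⟩ := exists_isPullback_of_range (FEt.puncturedSpec B).ι (FEt.puncturedSpec C).ι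
    (spm c) (fun z => by
      rw [mem_range_punct, mem_range_punct, ne_eq, ne_eq, not_iff_not]
      constructor
      · rintro rfl
        exact closedPoint_map c
      · intro h
        refine PrimeSpectrum.comap_injective_of_surjective c hc ?_
        exact h.trans (closedPoint_map c).symm)
  have s3 := hu.paste_vert sq
  have s4 := IsPullback.of_hasPullback ((FEt.puncturedSpec C).ι ≫ spm ψ) (spm φ)
  have s5 := s4.paste_horiz s3
  refine Etbc.H189.FibBC.isAcyclicSchemeN_of_iso s5.isoPullback ?_
  let _ : Algebra (ResidueField A) Ω := φ.toAlgebra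
  have halg : Algebra.IsAlgebraic (ResidueField A) Ω := hφ
  have hpi : IsPurelyInseparable (ResidueField A) Ω := inferInstance
  obtain ⟨h1, h2, h3⟩ := Etcore.SepClosedRed.bc_spec (ResidueField A) Ω s4
  have hpl := Groth.Agent.S0101.result (pullback.fst ((FEt.puncturedSpec C).ι ≫ spm ψ) (spm φ))
  have hpl' := Groth.Agent.S0101.result
    (pullback.fst ((FEt.puncturedSpec C).ι ≫ spm ψ) (spm φ) ≫ (FEt.puncturedSpec C).ι)
  refine GeomLE.isAcyclicSchemeN_of_bijective
    (pullback.fst ((FEt.puncturedSpec C).ι ≫ spm ψ) (spm φ) ≫ (FEt.puncturedSpec C).ι) hℓ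
    fun q hq => (bijective_Hpull_iff _ _ q).2 ?_
  exact InvQ.comp ((bijective_Hpull_iff _ _ q).1 (Groth.Agent.S0642.result _ _ q)) (hd q hq)

/-- The other geometric fibres of the punctured spectrum. -/
theorem isIso_fibre {A B : Type u} [CommRing A] [IsLocalRing A]
    [CommRing B] [IsLocalRing B] (β : A →+* B) [IsLocalHom β] {Ω : Type u} [Field Ω]
    (t : Spec (CommRingCat.of Ω) ⟶ Spec (CommRingCat.of A)) (ht : ∀ z, t z ≠ closedPoint A) :
    Nonempty (pullback (spm β) t ≅ pullback ((FEt.puncturedSpec B).ι ≫ spm β) t) := by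
  obtain ⟨u, hu⟩ := exists_isPullback_of_range (FEt.puncturedSpec B).ι (𝟙 (pullback (spm β) t))
    (pullback.fst (spm β) t) (fun z => by
      rw [mem_range_punct]
      refine ⟨fun _ h => ?_, fun _ => ⟨z, rfl⟩⟩
      refine ht (pullback.snd (spm β) t z) ?_
      have h1 := congrArg (fun k => k z) (pullback.condition (f := spm β) (g := t))
      refine h1.symm.trans ?_
      change spm β (pullback.fst (spm β) t z) = _
      rw [h]
      exact closedPoint_map β)
  have s := hu.paste_vert (IsPullback.of_hasPullback (spm β) t)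
  exact ⟨s.isoPullback⟩

end Groth.Agent.Sga2lef.H107.Fibres
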