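import Groth.Agent.Etbc.H189.GeomFib
import Groth.Agent.Etbc.H189.FibBC
import Groth.Prelude.Def_EtDepth

/-!
# `EtDepth.IsLocAcyclicLE` in terms of geometric fibres

`EtDepth.IsLocAcyclicLE f ℓ n` implies that the geometric fibres of every induced morphism of strict
localizations are `n`-acyclic schemes for `{ℓ}`.
-/

set_option autoImplicit false
universe u
open CategoryTheory CategoryTheory.Limits AlgebraicGeometry Opposite IsLocalRing
open scoped TensorProduct
open scoped Groth.Agent.Etcore.EtInst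
open Groth.Agent.Etcore.EtInst Groth.Agent.Etcore.HpullCalc

namespace Groth.Agent.Sga2lef.H107.GeomLE

open Groth.Agent Groth.Agent.Etrest.StrictLoc

attribute [local instance] S0101.result

theorem connectedSpace_spec (B : Type u) [CommRing B] [IsLocalRing B] :
    ConnectedSpace (Spec (CommRingCat.of B)) := by
  have hpre : PreconnectedSpace (PrimeSpectrum B) := by
    rw [preconnectedSpace_iff_clopen]
    intro s hs
    by_cases h : closedPoint B ∈ s
    · right
      have := (IsLocalRing.closed_point_mem_iff (U := ⟨s, hs.2⟩)).1 h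
      exact congrArg TopologicalSpace.Opens.carrier this
    · left
      have := (IsLocalRing.closed_point_mem_iff (U := ⟨sᶜ, hs.compl.2⟩)).1 h
      exact Set.compl_univ_iff.1 (congrArg TopologicalSpace.Opens.carrier this)
  exact { toNonempty := ⟨closedPoint B⟩, isPreconnected_univ := hpre.isPreconnected_univ }

/-- A scheme with the `ℤ/ℓ`-cohomology of a strictly henselian ring in degrees `≤ n` is an `n`-acyclic scheme. -/
theorem isAcyclicSchemeN_of_bijective {B : Type u} [CommRing B] [HenselianLocalRing B]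
    [IsSepClosed (ResidueField B)] {Z : Scheme.{u}} (g : Z ⟶ Spec (CommRingCat.of B)) {ℓ : ℕ}
    (hℓ : ℓ.Prime) {n : ℕ}
    (h : ∀ q : ℕ, q ≤ n → Function.Bijective (EtCore.Hpull g (EtCoh.const _ (ZMod ℓ)) q)) :
    EtAcyc.IsAcyclicSchemeN {ℓ} n Z := by
  have key : ∀ q : ℕ, q ≤ n → Nonempty (HH (Spec (CommRingCat.of B)) (EtCoh.const _ (ZMod ℓ)) q ≃+
        HH Z (EtCoh.const _ (ZMod ℓ)) q) := fun q hq =>
    ⟨(AddEquiv.ofBijective _ (h q hq)).trans (HHcongr (EtCore.pullConst g (ZMod ℓ)) q)⟩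
  have hconn : ConnectedSpace (Spec (CommRingCat.of B)) := connectedSpace_spec B
  have h0 : Nonempty Z ∧ ConnectedSpace Z := by
    obtain ⟨e⟩ := key 0 (Nat.zero_le n)
    obtain ⟨e₀⟩ := Etrest.SHPoint.nonempty_H0_const (Spec (CommRingCat.of B)) (ZMod ℓ)
    exact Etbc.H189.GeomFib.connectedSpace_of_equiv _ hℓ ⟨e.symm.trans e₀⟩
  refine ⟨h0.1, h0.2, fun l hl hlL q hq1 hqn => ?_⟩
  obtain rfl : l = ℓ := hlL
  obtain ⟨e⟩ := key q hqn
  have := Groth.Agent.S0073.result B (EtCoh.const _ (ZMod l)) q hq1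
  exact e.symm.toEquiv.subsingleton

/-- Geometric fibres of the strict localizations, over arbitrary separably closed fields. -/
theorem isAcyclicSchemeN_of_LE {X S : Scheme.{u}} {f : X ⟶ S} {ℓ : ℕ} (hℓ : ℓ.Prime) {n : ℕ}
    (h : EtDepth.IsLocAcyclicLE f ℓ n) (x : X) (RS RX : Type u) [CommRing RS] [CommRing RX]
    [IsLocalRing RS] [IsLocalRing RX]
    [Algebra (S.presheaf.stalk (f.base x)) RS] [IsLocalHom (algebraMap (S.presheaf.stalk (f.base x)) RS)]
    [Hensel.IsStrictHenselization (S.presheaf.stalk (f.base x)) RS]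
    [Algebra (X.presheaf.stalk x) RX] [IsLocalHom (algebraMap (X.presheaf.stalk x) RX)]
    [Hensel.IsStrictHenselization (X.presheaf.stalk x) RX]
    [Algebra RS RX] [IsLocalHom (algebraMap RS RX)]
    (hc : (algebraMap RS RX).comp (algebraMap (S.presheaf.stalk (f.base x)) RS) =
      (algebraMap (X.presheaf.stalk x) RX).comp (f.stalkMap x).hom)
    (Ω : Type u) [Field Ω] [IsSepClosed Ω] (t : Spec (CommRingCat.of Ω) ⟶ Spec (CommRingCat.of RS)) :
    EtAcyc.IsAcyclicSchemeN {ℓ} n (pullback (spm (algebraMap RS RX)) t) := by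
  obtain ⟨φ, rfl⟩ : ∃ φ : RS →+* Ω, spm φ = t := ⟨(Spec.preimage t).hom, Spec.map_preimage t⟩
  let _ : Algebra RS Ω := φ.toAlgebra
  have hh : HenselianLocalRing RX :=
    Hensel.IsStrictHenselization.henselian (R := X.presheaf.stalk x)
  have hs : IsSepClosed (ResidueField RX) :=
    (Hensel.IsStrictHenselization.isSepClosure (R := X.presheaf.stalk x) (S := RX)).sep_closed
  have h1 := h x RS RX hc Ω
  have h2 := isAcyclicSchemeN_of_bijective (Spec.map (CommRingCat.ofHom (algebraMap RX (RX ⊗[RS] Ω))))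
    hℓ h1
  exact Etbc.H189.FibBC.isAcyclicSchemeN_of_iso (pullbackSpecIso RS RX Ω).symm h2

/-- `IsLocAcyclicLE` gives `n`-acyclic algebraic geometric fibres for all strict localizations. -/
theorem onStrictLocalizations {X S : Scheme.{u}} {f : X ⟶ S} {ℓ : ℕ} (hℓ : ℓ.Prime) {n : ℕ}
    (h : EtDepth.IsLocAcyclicLE f ℓ n) :
    EtAcyc.OnStrictLocalizations f (fun _ _ h => EtAcyc.GeomFibresAcyclicN {ℓ} n h) := by
  intro x RS RX _ _ _ _ _ _ _ _ _ _ _ _ hc y Ω _ _ _ _
  exact isAcyclicSchemeN_of_LE hℓ h x RS RX hc Ω _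

end Groth.Agent.Sga2lef.H107.GeomLE
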