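import Groth.Agent.Sga2lef.H107.DegRB
import Groth.Agent.Ega2.LACLoc

/-!
# Truncated acyclicity may be checked on strict localizations

`p : Z' ⟶ Z` quasi-compact quasi-separated, `G` on `Z`.  If at every point of `Z` there is a strict
localization `τ : Spec C ⟶ Z` such that `H^q(Spec C, G) → H^q(Z' ×_Z Spec C, G)` is bijective for
`q = 0` (resp. `q = n > 0`) then the unit `G ⟶ p_* p⁻¹ G` is an isomorphism (resp. `R^n p_* p⁻¹ G = 0`).
-/

set_option autoImplicit false
set_option backward.isDefEq.respectTransparency.types false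
universe u
open CategoryTheory CategoryTheory.Limits AlgebraicGeometry Opposite IsLocalRing

namespace Groth.Agent.Sga2lef.H107.LocRQ

open Groth.Agent.Etrest.StrictLoc Groth.Agent.Ega2.LACRB Groth.Agent.Ega2.LACBc
  Groth.Agent.Ega2.LACLoc Etcore.HpullCalc DegRB

variable {Z' Z : Scheme.{u}} (p : Z' ⟶ Z) (G : EtCoh.Ab Z)

theorem bijective_top_of_rq {C : Type u} [CommRing C] [IsLocalRing C] (τ : Spec (CommRingCat.of C) ⟶ Z)
    (hτ : IsStrictLoc τ) [QuasiCompact p] [QuasiSeparated p] (hRQ : RQ G (pullback.snd p τ) τ 0) :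
    Function.Bijective (((EtCoh.pull τ).map ((EtCoh.pullPushAdj p).unit.app G)).hom.app
      (op (EtCoh.top (Spec (CommRingCat.of C))))) := by
  have h1 := (bijective_unitSec_iff _ _).1 ((bijective_hp_zero_iff _ _).1 hRQ)
  have h2 := congrArg (fun t => t.hom.app (op (EtCoh.top (Spec (CommRingCat.of C)))))
    (pull_unit_baseChange0 p τ (pullback.snd p τ) (pullback.fst p τ) pullback.condition G)
  have i1 := isIso_baseChange0_of_isStrictLoc hτ (IsPullback.of_hasPullback p τ) ((EtCoh.pull p).obj G)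
  have h3 : Function.Bijective ((EtCoh.baseChange0 p τ (pullback.snd p τ) (pullback.fst p τ) pullback.condition
    ((EtCoh.pull p).obj G)).hom.app (op (EtCoh.top (Spec (CommRingCat.of C))))) :=
    ConcreteCategory.bijective_of_isIso _
  have h4 : Function.Bijective (((EtCoh.push (pullback.snd p τ)).map
    ((Sga4B.HpullSquare.pullSquare τ p (pullback.snd p τ) (pullback.fst p τ) pullback.condition).hom.app G)).hom.app
      (op (EtCoh.top (Spec (CommRingCat.of C))))) :=
    ConcreteCategory.bijective_of_isIso _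
  have h5 : ∀ x, (EtCoh.baseChange0 p τ (pullback.snd p τ) (pullback.fst p τ) pullback.condition
      ((EtCoh.pull p).obj G)).hom.app (op (EtCoh.top (Spec (CommRingCat.of C))))
      (((EtCoh.pull τ).map ((EtCoh.pullPushAdj p).unit.app G)).hom.app
        (op (EtCoh.top (Spec (CommRingCat.of C)))) x) =
      ((EtCoh.push (pullback.snd p τ)).map
        ((Sga4B.HpullSquare.pullSquare τ p (pullback.snd p τ) (pullback.fst p τ) pullback.condition).hom.app G)).hom.app
      (op (EtCoh.top (Spec (CommRingCat.of C)))) (((EtCoh.pullPushAdj (pullback.snd p τ)).unit.app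
        ((EtCoh.pull τ).obj G)).hom.app (op (EtCoh.top (Spec (CommRingCat.of C)))) x) := fun x =>
    ConcreteCategory.congr_hom h2 x
  refine (Function.Bijective.of_comp_iff' h3 _).1 ?_
  have h6 := h4.comp h1
  exact (funext h5 : _ ∘ _ = _ ∘ _) ▸ h6

/-- If the unit of `p` is an isomorphism at `G` then the degree zero pullback map is bijective on strict
localizations. -/
theorem rq_zero_of_isIso_unit {C : Type u} [CommRing C] [IsLocalRing C] (τ : Spec (CommRingCat.of C) ⟶ Z)
    (hτ : IsStrictLoc τ) [QuasiCompact p] [QuasiSeparated p]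
    [hu : IsIso ((EtCoh.pullPushAdj p).unit.app G)] : RQ G (pullback.snd p τ) τ 0 := by
  refine (bijective_hp_zero_iff _ _).2 ((bijective_unitSec_iff _ _).2 ?_)
  have i1 := isIso_baseChange0_of_isStrictLoc hτ (IsPullback.of_hasPullback p τ) ((EtCoh.pull p).obj G)
  have h2 := pull_unit_baseChange0 p τ (pullback.snd p τ) (pullback.fst p τ) pullback.condition G
  have h3 : IsIso ((EtCoh.pullPushAdj (pullback.snd p τ)).unit.app ((EtCoh.pull τ).obj G) ≫
        (EtCoh.push (pullback.snd p τ)).map
          ((Sga4B.HpullSquare.pullSquare τ p (pullback.snd p τ) (pullback.fst p τ)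
            pullback.condition).hom.app G)) := by
    rw [← h2]
    infer_instance
  have h4 : IsIso ((EtCoh.pullPushAdj (pullback.snd p τ)).unit.app ((EtCoh.pull τ).obj G)) :=
    IsIso.of_isIso_comp_right _ ((EtCoh.push (pullback.snd p τ)).map
          ((Sga4B.HpullSquare.pullSquare τ p (pullback.snd p τ) (pullback.fst p τ)
            pullback.condition).hom.app G))
  exact ConcreteCategory.bijective_of_isIso _

/-- strict localizations at every point satisfying `RQ` in degree `q`. -/
def RQAt (q : ℕ) : Prop := ∀ z : Z, ∃ (C : Type u) (_ : CommRing C) (_ : IsLocalRing C)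
  (τ : Spec (CommRingCat.of C) ⟶ Z), IsStrictLoc τ ∧ τ (closedPoint C) = z ∧ RQ G (pullback.snd p τ) τ q

variable {p G} [QuasiCompact p] [QuasiSeparated p]

theorem isIso_unit (H : RQAt p G 0) : IsIso ((EtCoh.pullPushAdj p).unit.app G) := by
  refine Etcore.Stalks.isIso_of_stalks _ fun z => ?_
  obtain ⟨C, _, _, τ, hτ, hz, hRQ⟩ := H z
  have := hτ.henselian
  have := hτ.sepClosed
  refine ⟨ResidueField C, inferInstance, inferInstance, resPt C ≫ τ, ?_, ?_⟩
  · rw [Scheme.Hom.comp_apply, resPt_default, hz]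
  · have h1 := isIso_stalk_of_top C _ (bijective_top_of_rq p G τ hτ hRQ)
    exact (NatIso.isIso_map_iff (Etbase.StalkPull.stalkPullIso τ (resPt C)) _).2 h1

theorem isZero_Rpush (n : ℕ) (hn : 0 < n) (H : RQAt p G n) :
    IsZero ((EtCoh.Rpush p n).obj ((EtCoh.pull p).obj G)) := by
  refine EtpbcB.PBCVan.isZero_Rpush_of_van p _ n fun s R _ _ _ _ _ _ _ => ?_
  obtain ⟨C, _, _, τ, hτ, hz, hRQ⟩ := H s
  have hσ : IsStrictLoc (Hens2.specOf Z s R) := isStrictLoc_specOf Z s R
  obtain ⟨g, -, hg, hg'⟩ := hτ.exists_equiv hσ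
    (hz.trans (Etrest.VCBaseChange.specOf_closedPoint Z s R).symm)
  have ig := Sga1.UlaSL.isIso_spm g hg
  let e' : pullback p (Hens2.specOf Z s R) ⟶ pullback p τ :=
    pullback.map p (Hens2.specOf Z s R) p τ (𝟙 _) (spm g) (𝟙 _) (by simp) (by rw [hg', Category.comp_id])
  have h1 : RQ G (pullback.snd p (Hens2.specOf Z s R)) (Hens2.specOf Z s R) n :=
    hRQ.of_square e' (spm g) (pullback.lift_snd _ _ _).symm hg'
  have h2 : Subsingleton (EtCoh.H (Spec (CommRingCat.of R)) ((EtCoh.pull (Hens2.specOf Z s R)).obj G) n) :=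
    Groth.Agent.S0073.result R _ n hn
  have h3 : Subsingleton (EtCoh.H (pullback p (Hens2.specOf Z s R))
      ((EtCoh.pull (pullback.snd p (Hens2.specOf Z s R))).obj ((EtCoh.pull (Hens2.specOf Z s R)).obj G)) n) :=
    (h1.2).subsingleton
  have h4 := (EtpbcB.IsoTransport.HPullComp (pullback.snd p (Hens2.specOf Z s R)) (Hens2.specOf Z s R)
    (pullback.fst _ _ ≫ p) pullback.condition.symm G n).toEquiv.subsingleton_congr.2 h3
  exact (EtpbcB.IsoTransport.HPullComp (pullback.fst p (Hens2.specOf Z s R)) p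
    (pullback.fst _ _ ≫ p) rfl G n).toEquiv.subsingleton_congr.1 h4

end Groth.Agent.Sga2lef.H107.LocRQ
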